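import Cfsg.Agent.OddHalf.D9.FFour.Words
import Cfsg.Agent.FourTwo.Classes

/-!
# Squares in `K = 2.F₄(2)`

`sq` (`z` is not a square), and `Facts.inv` for the involutions `e` of `K`: up to conjugacy `e` is one of
`f 44, f 47, f 44 f 47, f 44 f 47 z, f 44 f 32, f 44 f 32 z` (squares of elements of `O²(C(e))`, by kernel checked
words), or `f 44 z`, `f 47 z` (hypothesis of `inv_of`).
-/

set_option autoImplicit false

namespace Cfsg.Agent.OddHalf.D9.FFour.Inv

open Subgroup
open Cfsg.Agent.FourTwo.Base (LL x wd x_mul_self wd_cons wd_nil bar)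
open Cfsg.Agent.FourTwo.Comm (cmg)
open Cfsg.Agent.FourTwo.CentAll (isShort)
open Cfsg.Agent.FourTwo.Classes (exists_class)
open Cfsg.Agent.OddHalf.D9.FFour.Def Cfsg.Agent.OddHalf.D9.FFour.Sys Cfsg.Agent.OddHalf.D9.FFour.Words

/-- the alternative in `Facts.inv` -/
def Alt {K : Type*} [Group K] (z e : K) : Prop :=
  (∃ y ∈ O2 (centralizer {e}), y * y = e) ∨
    (centralizer {e} = O2 (centralizer {e}) ∧ e ∈ Phi (centralizer {e}) ∧ z ∉ Phi (centralizer {e}))

theorem Alt.map {K L : Type*} [Group K] [Group L] {z e : K} (h : Alt z e) (φ : K ≃* L) : Alt (φ z) (φ e) := by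
  have hinj : Function.Injective (φ : K →* L) := φ.injective
  have hcen : (centralizer {e}).map (φ : K →* L) = centralizer {φ e} := by
    ext x
    constructor
    · rintro ⟨y, hy, rfl⟩
      have h1 : y * e = e * y := mem_centralizer_singleton_iff.1 hy
      rw [mem_centralizer_singleton_iff]
      show φ y * φ e = φ e * φ y
      rw [← map_mul, h1, map_mul]
    · intro hx
      rw [mem_centralizer_singleton_iff] at hx
      refine ⟨φ.symm x, ?_, by simp⟩
      apply mem_centralizer_singleton_iff.2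
      apply φ.injective
      rw [map_mul, map_mul, φ.apply_symm_apply]
      exact hx
  unfold Alt
  rw [← hcen, map_O2 hinj, map_Phi hinj]
  rcases h with ⟨y, hy, hye⟩ | ⟨ha, hb, hc⟩
  · left
    exact ⟨φ y, ⟨y, hy, rfl⟩, by rw [← map_mul, hye]⟩
  · right
    refine ⟨by rw [← ha], ⟨e, hb, rfl⟩, ?_⟩
    rintro ⟨y, hy, hyz⟩
    have : y = z := φ.injective hyz
    exact hc (this ▸ hy)

section

variable {K : Type*} [Group K] (S : Sys K)

/-- conjugate elements -/
theorem Alt.conj {z e : K} (hz : ∀ k : K, k * z = z * k) {k : K} (h : Alt z (k * e * k⁻¹)) : Alt z e := by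
  have h1 := h.map (MulAut.conj k⁻¹)
  have e1 : MulAut.conj k⁻¹ z = z := by
    rw [MulAut.conj_apply, inv_inv, mul_assoc, ← hz k, ← mul_assoc, inv_mul_cancel, one_mul]
  have e2 : MulAut.conj k⁻¹ (k * e * k⁻¹) = e := by
    rw [MulAut.conj_apply]
    group
  rwa [e1, e2] at h1

/-- **The rule.** -/
theorem rule {D : Subgroup K} {s r : ℕ} (hs : s < 48) (hr : r < 48) (h1 : S.f s ∈ D) (h2 : S.f (47 - s) ∈ D)
    (h3 : S.f r ∈ D) (hc : cmg s r ≠ []) (hc' : cmg (47 - s) r = []) :
    fw S.f (cmg s r) * sg S ((cmg s r).length == 2) ∈ O2 D := by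
  obtain ⟨hne, hne'⟩ := ne_of_len hs hr hc
  have h4 := cm_all S hs hr hne hne'
  have h5 := comm0 S (show 47 - s < 48 by omega) hr (by omega) hc'
  have hb := S.braid hs (isShort_opp hs)
  have hs1 := S.f_inv hs
  have hs2 := S.f_inv (show 47 - s < 48 by omega)
  have hff := S.ff s hs
  have hff' := S.ff (47 - s) (by omega)
  generalize fw S.f (cmg s r) * sg S ((cmg s r).length == 2) = m at h4 ⊢
  generalize S.f s = a at *
  generalize S.f (47 - s) = b at *
  generalize S.f r = c at *
  have ht : (a * b) ^ 3 = 1 := by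
    calc (a * b) ^ 3 = (a * b * a) * (b * a * b) := by
          rw [pow_succ, pow_two]
          simp only [mul_assoc]
      _ = (b * a * b) * (b * a * b) := by rw [hb]
      _ = b * a * (b * b) * a * b := by group
      _ = b * (a * a) * b := by rw [hff']; group
      _ = 1 := by rw [hff, mul_one, hff']
  have ho : Odd (orderOf (a * b)) := by
    have h6 := orderOf_dvd_of_pow_eq_one ht
    exact Odd.of_dvd_nat (by decide) h6
  have hm : a * b ∈ O2 D := mem_O2_of_odd (mul_mem h1 h2) ho
  have h7 : c * (a * b)⁻¹ * c⁻¹ ∈ O2 D := O2_normal h3 (inv_mem hm)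
  have h8 : (a * b) * (c * (a * b)⁻¹ * c⁻¹) = c * m * c⁻¹ := by
    calc (a * b) * (c * (a * b)⁻¹ * c⁻¹) = a * (b * c) * b⁻¹ * a⁻¹ * c⁻¹ := by group
      _ = a * (c * b) * b⁻¹ * a⁻¹ * c⁻¹ := by rw [h5]
      _ = (a * c) * a⁻¹ * c⁻¹ := by group
      _ = (c * m * a) * a⁻¹ * c⁻¹ := by rw [h4]
      _ = c * m * c⁻¹ := by group
  have h9 : c * m * c⁻¹ ∈ O2 D := by
    rw [← h8]
    exact mul_mem hm h7
  have h10 := O2_normal (inv_mem h3) h9
  have h11 : c⁻¹ * (c * m * c⁻¹) * c⁻¹⁻¹ = m := by group
  rwa [h11] at h10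

/-- the letter commutes with all letters of `E` -/
def inD (E : List ℕ) (b : ℕ) : Bool := E.all fun c => (b == c) || (b + c != 47 && cmg b c == [])

theorem comm_of_inD {E : List ℕ} (hE : ∀ r ∈ E, r < 48) {b : ℕ} (hb : b < 48) (h : inD E b = true) :
    S.f b * fw S.f E = fw S.f E * S.f b := by
  induction E with
  | nil => rw [fw_nil, mul_one, one_mul]
  | cons c E ih =>
    unfold inD at h ih
    rw [List.all_cons, Bool.and_eq_true] at h
    have h1 := ih (fun r hr => hE r (List.mem_cons_of_mem _ hr)) h.2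
    have hc := hE c List.mem_cons_self
    have h2 : S.f b * S.f c = S.f c * S.f b := by
      have h3 := h.1
      rw [Bool.or_eq_true, beq_iff_eq] at h3
      rcases h3 with rfl | h3
      · rfl
      · rw [Bool.and_eq_true, beq_iff_eq, bne_iff_ne] at h3
        exact comm0 S hb hc h3.1 h3.2
    rw [fw_cons, ← mul_assoc, h2, mul_assoc, h1, mul_assoc]

theorem mem_D {E : List ℕ} (hE : ∀ r ∈ E, r < 48) {b : ℕ} (hb : b < 48) (h : inD E b = true) (i : Bool) :
    S.f b ∈ centralizer {fw S.f E * sg S i} := by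
  rw [mem_centralizer_singleton_iff, ← mul_assoc, comm_of_inD S hE hb h, mul_assoc, sg_comm, mul_assoc]

/-- `f t ∈ O²` by the rule -/
def o1 (E : List ℕ) (t : ℕ) : Bool := (List.range 48).any fun s => inD E s && inD E (47 - s) &&
  (List.range 48).any fun r => inD E r && cmg s r == [t] && cmg (47 - s) r == []

theorem o1_spec {E : List ℕ} (hE : ∀ r ∈ E, r < 48) {t : ℕ} (h : o1 E t = true) (i : Bool) :
    S.f t ∈ O2 (centralizer {fw S.f E * sg S i}) := by
  unfold o1 at h
  rw [List.any_eq_true] at h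
  obtain ⟨s, hs, h⟩ := h
  rw [Bool.and_eq_true, Bool.and_eq_true, List.any_eq_true] at h
  obtain ⟨⟨h1, h2⟩, r, hr, h⟩ := h
  rw [Bool.and_eq_true, Bool.and_eq_true, beq_iff_eq, beq_iff_eq] at h
  rw [List.mem_range] at hs hr
  have h3 := rule S hs hr (mem_D S hE hs h1 i) (mem_D S hE (by omega) h2 i) (mem_D S hE hr h.1.1 i)
    (by rw [h.1.2]; simp) h.2
  rw [h.1.2] at h3
  simpa [fw, sg] using h3

/-- `f t * z ∈ O²` by the rule -/
def oz (E : List ℕ) (t : ℕ) : Bool := (List.range 48).any fun s => inD E s && inD E (47 - s) &&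
  (List.range 48).any fun r => inD E r && cmg (47 - s) r == [] &&
    (List.range 48).any fun u => (cmg s r == [t, u] || cmg s r == [u, t]) && o1 E u

theorem oz_spec {E : List ℕ} (hE : ∀ r ∈ E, r < 48) {t : ℕ} (h : oz E t = true) (i : Bool) :
    S.f t * S.z ∈ O2 (centralizer {fw S.f E * sg S i}) := by
  unfold oz at h
  rw [List.any_eq_true] at h
  obtain ⟨s, hs, h⟩ := h
  rw [Bool.and_eq_true, Bool.and_eq_true, List.any_eq_true] at h
  obtain ⟨⟨h1, h2⟩, r, hr, h⟩ := h
  rw [Bool.and_eq_true, Bool.and_eq_true, List.any_eq_true, beq_iff_eq] at h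
  obtain ⟨⟨h3, h4⟩, u, -, h⟩ := h
  rw [Bool.and_eq_true, Bool.or_eq_true, beq_iff_eq, beq_iff_eq] at h
  rw [List.mem_range] at hs hr
  have h6 := o1_spec S hE h.2 i
  rcases h.1 with h5 | h5
  · have h7 := rule S hs hr (mem_D S hE hs h1 i) (mem_D S hE (by omega) h2 i) (mem_D S hE hr h3 i)
      (by rw [h5]; simp) h4
    rw [h5] at h7
    have h8 : fw S.f [t, u] * sg S (([t, u] : List ℕ).length == 2) = S.f t * S.f u * S.z := by
      simp [fw, sg]
    rw [h8] at h7
    have h9 := mul_mem h7 (inv_mem h6)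
    have h10 : S.f t * S.f u * S.z * (S.f u)⁻¹ = S.f t * S.z := by
      rw [mul_assoc (S.f t), S.zc, ← mul_assoc, mul_inv_cancel_right]
    rwa [h10] at h9
  · have h7 := rule S hs hr (mem_D S hE hs h1 i) (mem_D S hE (by omega) h2 i) (mem_D S hE hr h3 i)
      (by rw [h5]; simp) h4
    rw [h5] at h7
    have h8 : fw S.f [u, t] * sg S (([u, t] : List ℕ).length == 2) = S.f u * (S.f t * S.z) := by
      simp [fw, sg, mul_assoc]
    rw [h8] at h7
    have h9 := mul_mem (inv_mem h6) h7
    rwa [inv_mul_cancel_left] at h9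

/-- the product of the signed letters -/
def sw (w : List (ℕ × Bool)) : K := (w.map fun p => S.f p.1 * sg S p.2).prod

/-- the total sign -/
def tsg (w : List (ℕ × Bool)) : Bool := w.foldr (fun p b => p.2 ^^ b) false

theorem sw_eq (w : List (ℕ × Bool)) : sw S w = fw S.f (w.map fun p => p.1) * sg S (tsg w) := by
  induction w with
  | nil => simp [sw, fw, sg, tsg]
  | cons p w ih =>
    have h1 : sw S (p :: w) = S.f p.1 * sg S p.2 * sw S w := by simp [sw]
    rw [h1, ih]
    show _ = fw S.f (p.1 :: w.map fun p => p.1) * sg S (p.2 ^^ tsg w)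
    rw [fw_cons, sg_xor]
    calc S.f p.1 * sg S p.2 * (fw S.f (w.map fun p => p.1) * sg S (tsg w))
        = S.f p.1 * (sg S p.2 * fw S.f (w.map fun p => p.1)) * sg S (tsg w) := by simp only [mul_assoc]
      _ = S.f p.1 * (fw S.f (w.map fun p => p.1) * sg S p.2) * sg S (tsg w) := by
          rw [sg_comm S p.2 (fw S.f (w.map fun p => p.1))]
      _ = _ := by simp only [mul_assoc]

theorem sg_mul_self (b : Bool) : sg S b * sg S b = 1 := by
  cases b <;> simp [sg, S.zz]

/-- the certificate -/
def cert (E : List ℕ) (w : List (ℕ × Bool)) (b : Bool) (n : ℕ) : Bool :=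
  (w.all fun p => if p.2 then oz E p.1 else o1 E p.1) &&
    chk n ((w.map fun p => p.1) ++ (w.map fun p => p.1)) E b

theorem alt_of_cert {E : List ℕ} {w : List (ℕ × Bool)} {b : Bool} {n : ℕ} (h : cert E w b n = true) :
    Alt S.z (fw S.f E * sg S b) := by
  unfold cert at h
  rw [Bool.and_eq_true, List.all_eq_true] at h
  have hE : ∀ r ∈ E, r < 48 := by
    have h1 := h.2
    unfold chk at h1
    rw [Bool.and_eq_true, Bool.and_eq_true] at h1
    exact fun r hr => (pos_of_all h1.1.2 r hr).2
  left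
  refine ⟨sw S w, ?_, ?_⟩
  · have key : ∀ w' : List (ℕ × Bool), (∀ p ∈ w', p ∈ w) → sw S w' ∈ O2 (centralizer {fw S.f E * sg S b}) := by
      intro w'
      induction w' with
      | nil => intro _; exact one_mem _
      | cons p w' ih =>
        intro h1
        have h2 : sw S (p :: w') = S.f p.1 * sg S p.2 * sw S w' := by simp [sw]
        rw [h2]
        refine mul_mem ?_ (ih fun q hq => h1 q (List.mem_cons_of_mem _ hq))
        have h3 := h.1 p (h1 p List.mem_cons_self)
        split_ifs at h3 with h4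
        · rw [h4]
          exact oz_spec S hE h3 b
        · rw [Bool.not_eq_true] at h4
          rw [h4, sg_false, mul_one]
          exact o1_spec S hE h3 b
    exact key w fun p hp => hp
  · rw [sw_eq]
    have h5 := word_eq S h.2
    rw [fw_append] at h5
    rw [← h5]
    generalize fw S.f (w.map fun p => p.1) = a
    calc a * sg S (tsg w) * (a * sg S (tsg w)) = a * (sg S (tsg w) * a) * sg S (tsg w) := by simp only [mul_assoc]
      _ = a * (a * sg S (tsg w)) * sg S (tsg w) := by rw [sg_comm S (tsg w) a]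
      _ = a * a * (sg S (tsg w) * sg S (tsg w)) := by simp only [mul_assoc]
      _ = a * a := by rw [sg_mul_self, mul_one]

theorem c44 : cert [44] [(40, false), (33, false)] false 60 = true := by decide +kernel
theorem c47 : cert [47] [(46, false), (24, false)] false 60 = true := by decide +kernel
theorem cc : cert [44, 47] [(40, false), (33, false), (46, false), (24, false)] false 100 = true := by decide +kernel
theorem ccz : cert [44, 47] [(41, true), (29, true)] true 100 = true := by decide +kernel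
theorem cd : cert [44, 32] [(36, false), (37, false), (31, false), (25, false)] false 100 = true := by decide +kernel
theorem cdz : cert [44, 32] [(25, false), (26, false), (28, true), (31, false), (35, false), (37, false), (38, false),
  (43, true)] true 400 = true := by decide +kernel

/-- the representatives -/
theorem rep_sq {E : List ℕ} {b : Bool} {n : ℕ} (h : chk n (E ++ E) [] false = true) :
    (fw S.f E * sg S b) * (fw S.f E * sg S b) = 1 := by
  have h1 := word_eq S h
  rw [fw_append, fw_nil, sg_false, mul_one] at h1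
  calc fw S.f E * sg S b * (fw S.f E * sg S b) = fw S.f E * (sg S b * fw S.f E) * sg S b := by simp only [mul_assoc]
    _ = fw S.f E * (fw S.f E * sg S b) * sg S b := by rw [sg_comm S b (fw S.f E)]
    _ = fw S.f E * fw S.f E * (sg S b * sg S b) := by simp only [mul_assoc]
    _ = 1 := by rw [h1, sg_mul_self, mul_one]

/-- every element with an involution as image is conjugate to a representative -/
theorem exists_rep {e : K} (h : S.π e * S.π e = 1) (h1 : S.π e ≠ 1) : ∃ (k : K) (E : List ℕ) (b : Bool),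
    E ∈ ([[44], [47], [44, 47], [44, 32]] : List (List ℕ)) ∧ k * e * k⁻¹ = fw S.f E * sg S b := by
  obtain ⟨y, hy⟩ := exists_class h h1
  obtain ⟨k, rfl⟩ := S.surj y
  have key : ∀ E : List ℕ, (∀ r ∈ E, r < 48) → S.π k * S.π e * (S.π k)⁻¹ = wd E →
      ∃ b, k * e * k⁻¹ = fw S.f E * sg S b := by
    intro E hE h2
    have h3 : S.π (k * e * k⁻¹) = S.π (fw S.f E) := by
      rw [S.π_fw hE, ← h2]
      simp
    rcases S.eq_or h3 with h4 | h4
    · exact ⟨false, by rw [h4]; simp [sg]⟩
    · exact ⟨true, by rw [h4]; simp [sg]⟩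
  rcases hy with hy | hy | hy | hy
  · obtain ⟨b, hb⟩ := key [44] (by decide) (by rw [hy, wd_cons, wd_nil, mul_one])
    exact ⟨k, [44], b, by simp, hb⟩
  · obtain ⟨b, hb⟩ := key [47] (by decide) (by rw [hy, wd_cons, wd_nil, mul_one])
    exact ⟨k, [47], b, by simp, hb⟩
  · obtain ⟨b, hb⟩ := key [44, 47] (by decide) (by rw [hy, wd_cons, wd_cons, wd_nil, mul_one])
    exact ⟨k, [44, 47], b, by simp, hb⟩
  · obtain ⟨b, hb⟩ := key [44, 32] (by decide) (by rw [hy, wd_cons, wd_cons, wd_nil, mul_one])
    exact ⟨k, [44, 32], b, by simp, hb⟩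

theorem sq44 : chk 60 ([44] ++ [44]) [] false = true := by decide +kernel
theorem sq47 : chk 60 ([47] ++ [47]) [] false = true := by decide +kernel
theorem sqc : chk 60 ([44, 47] ++ [44, 47]) [] false = true := by decide +kernel
theorem sqd : chk 60 ([44, 32] ++ [44, 32]) [] false = true := by decide +kernel

/-- **`z` is not a square.** -/
theorem sq (y : K) : y * y ≠ S.z := by
  intro hy
  have h1 : S.π y * S.π y = 1 := by rw [← map_mul, hy, S.π_z]
  have h2 : y * y = 1 := by
    by_cases h3 : S.π y = 1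
    · rcases (S.ker y).1 h3 with rfl | rfl
      · exact mul_one 1
      · exact S.zz
    · obtain ⟨k, E, b, hE, hk⟩ := exists_rep S h1 h3
      have h4 : (k * y * k⁻¹) * (k * y * k⁻¹) = 1 := by
        rw [hk]
        simp only [List.mem_cons, List.not_mem_nil, or_false] at hE
        rcases hE with rfl | rfl | rfl | rfl
        · exact rep_sq S sq44
        · exact rep_sq S sq47
        · exact rep_sq S sqc
        · exact rep_sq S sqd
      have h5 : (k * y * k⁻¹) * (k * y * k⁻¹) = k * (y * y) * k⁻¹ := by group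
      rw [h5, mul_inv_eq_one, mul_eq_left] at h4
      exact h4
  rw [h2] at hy
  exact S.ne hy.symm

/-- **The involutions of `K`** from the two label classes. -/
theorem inv_of (h44 : Alt S.z (S.f 44 * S.z)) (h47 : Alt S.z (S.f 47 * S.z)) {e : K} (he : e * e = 1) (he1 : e ≠ 1)
    (hez : e ≠ S.z) : Alt S.z e := by
  have h1 : S.π e * S.π e = 1 := by rw [← map_mul, he, map_one]
  have h2 : S.π e ≠ 1 := by
    intro h
    rcases (S.ker e).1 h with h | h
    · exact he1 h
    · exact hez h
  obtain ⟨k, E, b, hE, hk⟩ := exists_rep S h1 h2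
  refine Alt.conj (fun k => S.zc k) (k := k) ?_
  rw [hk]
  simp only [List.mem_cons, List.not_mem_nil, or_false] at hE
  rcases hE with rfl | rfl | rfl | rfl <;> cases b
  · exact alt_of_cert S c44
  · rw [fw_one, sg_true]
    exact h44
  · exact alt_of_cert S c47
  · rw [fw_one, sg_true]
    exact h47
  · exact alt_of_cert S cc
  · exact alt_of_cert S ccz
  · exact alt_of_cert S cd
  · exact alt_of_cert S cdz

/-- the same from one label class (duality) -/
theorem inv_of' (h : ∀ T : Sys K, Alt T.z (T.f 44 * T.z)) {e : K} (he : e * e = 1) (he1 : e ≠ 1)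
    (hez : e ≠ S.z) : Alt S.z e := by
  refine inv_of S (h S) ?_ he he1 hez
  obtain ⟨T, hT, hz⟩ := exists_dual S
  have h1 := h T
  rw [hT, hz] at h1
  have h2 : bar 44 = 47 := by decide
  rwa [h2] at h1

end

end Cfsg.Agent.OddHalf.D9.FFour.Inv
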