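import Mathlib

/-!
# The facts on `K = 2.F₄(2)` used in the node D9 (interface between the `K`-side and the `G`-side)

* `O2 D`: the subgroup generated by the elements of odd order of `D`;
* `In2 P x`: `x ∈ O₂(P)`; `Wz P x`: `x ∈ Z(O₂(P))`; `Phi P = [Z(O₂(P)), P]`;
* `Facts K z`: the facts on a perfect double cover `K` of `F₄(2)` with centre `{1, z}`;
* everything is transported by injective homomorphisms.
-/

set_option autoImplicit false

namespace Cfsg.Agent.OddHalf.D9.FFour.Def

open Subgroup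

section Defs

variable {G : Type*} [Group G]

/-- the subgroup generated by the elements of odd order of `D` -/
def O2 (D : Subgroup G) : Subgroup G := closure {x | x ∈ D ∧ Odd (orderOf x)}

/-- `x` lies in a normal `2`-subgroup of `P` -/
def In2 (P : Subgroup G) (x : G) : Prop :=
  x ∈ P ∧ IsPGroup 2 ↥(closure {y : G | ∃ p ∈ P, y = p * x * p⁻¹})

/-- `x` lies in the centre of `O₂(P)` -/
def Wz (P : Subgroup G) (x : G) : Prop := In2 P x ∧ ∀ y, In2 P y → x * y = y * x

/-- `[Z(O₂(P)), P]` -/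
def Phi (P : Subgroup G) : Subgroup G :=
  closure {y | ∃ w p, Wz P w ∧ p ∈ P ∧ y = w * p * w⁻¹ * p⁻¹}

/-- the fixed points of an automorphism -/
def fix (α : MulAut G) : Subgroup G where
  carrier := {x | α x = x}
  one_mem' := map_one α
  mul_mem' := by
    intro a b ha hb
    show α (a * b) = a * b
    rw [map_mul, show α a = a from ha, show α b = b from hb]
  inv_mem' := by
    intro a ha
    show α a⁻¹ = a⁻¹
    rw [map_inv, show α a = a from ha]

theorem mem_fix {α : MulAut G} {x : G} : x ∈ fix α ↔ α x = x := Iff.rfl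

/-- **The facts on `K = 2.F₄(2)`.** -/
structure Facts (K : Type*) [Group K] (z : K) : Prop where
  ne : z ≠ 1
  zz : z * z = 1
  /-- the centre is `{1, z}` -/
  cen : ∀ x : K, (∀ y, x * y = y * x) ↔ x = 1 ∨ x = z
  /-- `z` is not a square -/
  sq : ∀ y : K, y * y ≠ z
  /-- the involutions of `K` -/
  inv : ∀ e : K, e * e = 1 → e ≠ 1 → e ≠ z →
    (∃ y ∈ O2 (centralizer {e}), y * y = e) ∨
    (centralizer {e} = O2 (centralizer {e}) ∧ e ∈ Phi (centralizer {e}) ∧ z ∉ Phi (centralizer {e}))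
  /-- `Out(K)` has exponent 2 -/
  outsq : ∀ α : MulAut K, ∃ k, ∀ x, α (α x) = k * x * k⁻¹
  /-- the outer automorphisms of order 2 -/
  out : ∀ α : MulAut K, (∀ x, α (α x) = x) → (∀ k, ∃ x, α x ≠ k * x * k⁻¹) →
    ∃ k, α k * k⁻¹ ≠ 1 ∧ α k * k⁻¹ ∈ O2 (fix α)

theorem O2_le (D : Subgroup G) : O2 D ≤ D := by
  unfold O2
  rw [closure_le]
  exact fun x hx => hx.1

theorem O2_mono {D E : Subgroup G} (h : D ≤ E) : O2 D ≤ O2 E :=
  closure_mono fun _ hx => ⟨h hx.1, hx.2⟩

theorem mem_O2_of_odd {D : Subgroup G} {x : G} (hx : x ∈ D) (h : Odd (orderOf x)) : x ∈ O2 D :=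
  subset_closure ⟨hx, h⟩

/-- `O²(D) ≤ K` when the elements of odd order of `D` lie in `K` -/
theorem O2_le_of {D K : Subgroup G} (h : ∀ x ∈ D, Odd (orderOf x) → x ∈ K) : O2 D ≤ K := by
  unfold O2
  rw [closure_le]
  exact fun x hx => h x hx.1 hx.2

theorem O2_normal {D : Subgroup G} {g x : G} (hg : g ∈ D) (hx : x ∈ O2 D) : g * x * g⁻¹ ∈ O2 D := by
  have h : O2 D ≤ (O2 D).comap (MulAut.conj g).toMonoidHom := by
    nth_rw 1 [O2]
    rw [closure_le]
    rintro y ⟨hy, ho⟩
    show g * y * g⁻¹ ∈ O2 D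
    refine mem_O2_of_odd (mul_mem (mul_mem hg hy) (inv_mem hg)) ?_
    have e : orderOf (g * y * g⁻¹) = orderOf y := by
      have := orderOf_injective (MulAut.conj g).toMonoidHom (MulAut.conj g).injective y
      simpa using this
    rw [e]
    exact ho
  exact h hx

end Defs

section Map

variable {G H : Type*} [Group G] [Group H] {f : G →* H}

theorem map_O2 (hf : Function.Injective f) (D : Subgroup G) : O2 (D.map f) = (O2 D).map f := by
  unfold O2
  rw [MonoidHom.map_closure]
  congr 1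
  ext x
  constructor
  · rintro ⟨⟨y, hy, rfl⟩, ho⟩
    rw [orderOf_injective f hf] at ho
    exact ⟨y, ⟨hy, ho⟩, rfl⟩
  · rintro ⟨y, ⟨hy, ho⟩, rfl⟩
    exact ⟨⟨y, hy, rfl⟩, by rw [orderOf_injective f hf]; exact ho⟩

theorem map_In2 (hf : Function.Injective f) {P : Subgroup G} {x : G} : In2 (P.map f) (f x) ↔ In2 P x := by
  unfold In2
  have e : {y : H | ∃ p ∈ P.map f, y = p * f x * p⁻¹} = f '' {y : G | ∃ p ∈ P, y = p * x * p⁻¹} := by
    ext y
    constructor
    · rintro ⟨_, ⟨p, hp, rfl⟩, rfl⟩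
      exact ⟨p * x * p⁻¹, ⟨p, hp, rfl⟩, by simp⟩
    · rintro ⟨_, ⟨p, hp, rfl⟩, rfl⟩
      exact ⟨f p, ⟨p, hp, rfl⟩, by simp⟩
  rw [e, ← MonoidHom.map_closure, mem_map_iff_mem hf]
  have e2 : IsPGroup 2 ↥((closure {y : G | ∃ p ∈ P, y = p * x * p⁻¹}).map f) ↔
      IsPGroup 2 ↥(closure {y : G | ∃ p ∈ P, y = p * x * p⁻¹}) :=
    ⟨fun h => h.of_equiv ((closure {y : G | ∃ p ∈ P, y = p * x * p⁻¹}).equivMapOfInjective f hf).symm,
      fun h => h.of_equiv ((closure {y : G | ∃ p ∈ P, y = p * x * p⁻¹}).equivMapOfInjective f hf)⟩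
  rw [e2]

theorem exists_of_In2 {P : Subgroup G} {y : H} (h : In2 (P.map f) y) : ∃ x ∈ P, f x = y := h.1

theorem map_Wz (hf : Function.Injective f) {P : Subgroup G} {x : G} : Wz (P.map f) (f x) ↔ Wz P x := by
  unfold Wz
  rw [map_In2 hf]
  refine and_congr_right fun _ => ⟨fun h y hy => ?_, fun h y hy => ?_⟩
  · apply hf
    rw [map_mul, map_mul]
    exact h (f y) ((map_In2 hf).2 hy)
  · obtain ⟨y, _, rfl⟩ := exists_of_In2 hy
    rw [map_In2 hf] at hy
    rw [← map_mul, ← map_mul, h y hy]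

theorem map_Phi (hf : Function.Injective f) (P : Subgroup G) : Phi (P.map f) = (Phi P).map f := by
  unfold Phi
  rw [MonoidHom.map_closure]
  congr 1
  ext x
  constructor
  · rintro ⟨w, p, hw, ⟨p, hp, rfl⟩, rfl⟩
    obtain ⟨w, _, rfl⟩ := exists_of_In2 hw.1
    rw [map_Wz hf] at hw
    exact ⟨w * p * w⁻¹ * p⁻¹, ⟨w, p, hw, hp, rfl⟩, by simp⟩
  · rintro ⟨_, ⟨w, p, hw, hp, rfl⟩, rfl⟩
    exact ⟨f w, f p, (map_Wz hf).2 hw, ⟨p, hp, rfl⟩, by simp⟩

/-- transport of `Facts` -/
theorem Facts.of_equiv {K L : Type*} [Group K] [Group L] {z : K} (h : Facts K z) (φ : K ≃* L) : Facts L (φ z) := by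
  have hinj : Function.Injective (φ : K →* L) := φ.injective
  have hcen : ∀ e : K, (centralizer {e}).map (φ : K →* L) = centralizer {φ e} := by
    intro e
    ext x
    constructor
    · rintro ⟨y, hy, rfl⟩
      have h1 : y * e = e * y := mem_centralizer_singleton_iff.1 hy
      rw [mem_centralizer_singleton_iff]
      show φ y * φ e = φ e * φ y
      rw [← map_mul, h1, map_mul]
    · intro hx
      rw [mem_centralizer_singleton_iff] at hx
      refine ⟨φ.symm x, ?_, by simp⟩
      apply mem_centralizer_singleton_iff.2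
      apply φ.injective
      rw [map_mul, map_mul, φ.apply_symm_apply]
      exact hx
  refine ⟨?_, ?_, ?_, ?_, ?_, ?_, ?_⟩
  · exact fun h1 => h.ne (φ.injective (by rw [h1, map_one]))
  · rw [← map_mul, h.zz, map_one]
  · intro x
    have h1 := h.cen (φ.symm x)
    constructor
    · intro hx
      have h2 := h1.1 fun y => by
        apply φ.injective
        rw [map_mul, map_mul, φ.apply_symm_apply]
        exact hx (φ y)
      rcases h2 with h2 | h2
      · left
        rw [← φ.apply_symm_apply x, h2, map_one]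
      · right
        exact (φ.symm_apply_eq.1 h2)
    · intro hx y
      have h2 := h1.2 (by
        rcases hx with rfl | rfl
        · left; simp
        · right; simp) (φ.symm y)
      have h3 := congrArg φ h2
      simpa using h3
  · intro y hy
    apply h.sq (φ.symm y)
    apply φ.injective
    rw [map_mul, φ.apply_symm_apply]
    exact hy
  · intro e he he1 hez
    obtain ⟨e, rfl⟩ := φ.surjective e
    have h1 : e * e = 1 := φ.injective (by rw [map_mul, he, map_one])
    have h2 : e ≠ 1 := fun h => he1 (by rw [h, map_one])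
    have h3 : e ≠ z := fun h => hez (by rw [h])
    rw [← hcen e, map_O2 hinj, map_Phi hinj]
    rcases h.inv e h1 h2 h3 with ⟨y, hy, hye⟩ | ⟨ha, hb, hc⟩
    · left
      exact ⟨φ y, ⟨y, hy, rfl⟩, by rw [← map_mul, hye]⟩
    · right
      refine ⟨by rw [← ha], ⟨e, hb, rfl⟩, ?_⟩
      rintro ⟨y, hy, hyz⟩
      have : y = z := φ.injective hyz
      exact hc (this ▸ hy)
  · intro α
    obtain ⟨k, hk⟩ := h.outsq ((φ.trans α).trans φ.symm)
    refine ⟨φ k, fun x => ?_⟩
    have h1 := congrArg φ (hk (φ.symm x))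
    simpa using h1
  · intro α h1 h2
    obtain ⟨k, hk1, hk2⟩ := h.out ((φ.trans α).trans φ.symm) (fun x => by simp [h1]) (by
      intro k
      obtain ⟨x, hx⟩ := h2 (φ k)
      refine ⟨φ.symm x, fun h3 => hx ?_⟩
      have h4 := congrArg φ h3
      simpa using h4)
    have e : φ ((φ.trans α).trans φ.symm k * k⁻¹) = α (φ k) * (φ k)⁻¹ := by simp
    refine ⟨φ k, ?_, ?_⟩
    · intro h3
      apply hk1
      apply φ.injective
      rw [map_one]
      rw [← h3]
      exact e
    · have h3 : (fix ((φ.trans α).trans φ.symm : MulAut K)).map (φ : K →* L) = fix α := by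
        ext x
        constructor
        · rintro ⟨y, hy, rfl⟩
          have hy' : φ.symm (α (φ y)) = y := hy
          rw [mem_fix]
          show α (φ y) = φ y
          exact φ.symm_apply_eq.1 hy'
        · intro hx
          rw [mem_fix] at hx
          refine ⟨φ.symm x, ?_, by simp⟩
          show φ.symm (α (φ (φ.symm x))) = φ.symm x
          rw [φ.apply_symm_apply, hx]
      rw [← h3, map_O2 hinj]
      exact ⟨_, hk2, e⟩

end Map

end Cfsg.Agent.OddHalf.D9.FFour.Def
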