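import Cfsg.Agent.OddHalf.D9.FFour.HOne
import Cfsg.Agent.OddHalf.D9.FFour.Def
import Cfsg.Agent.FourTwo.Lift

/-!
# The automorphisms of a perfect central extension `K` of `F₄(2)`

`E : Ext π`, `π : K →* LL`.

* `exists_ind`: every automorphism of `K` induces one of `LL`;
* `exists_inner`: if the induced automorphism is inner then the automorphism is (`K` perfect);
* `outsq`: squares of automorphisms are inner;
* `exists_std`: an automorphism of order two which is not inner is conjugate to one with `A r ↦ A (bar r)`;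
* `out`: the field `out` of `Def.Facts`.
-/

set_option autoImplicit false

namespace Cfsg.Agent.OddHalf.D9.FFour.Out

open Subgroup Cfsg.Agent.FourTwo.Base Cfsg.Agent.FourTwo.Comm Cfsg.Agent.FourTwo.BN Cfsg.Agent.FourTwo.Lift
open Cfsg.Agent.OddHalf.D9.FFour.AutLL Cfsg.Agent.OddHalf.D9.FFour.HOne Cfsg.Agent.OddHalf.D9.FFour.Def
open Cfsg.Agent.ChevalleyStructure.TwF4.Torus (all_of)
open scoped commutatorElement

variable {K : Type*} [Group K] {π : K →* LL}

/-- the kernel is the centre -/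
theorem ker_iff (E : Ext π) {k : K} : π k = 1 ↔ ∀ y, k * y = y * k := by
  constructor
  · exact E.cen k
  · intro h
    refine eq_one_of_central fun y => ?_
    obtain ⟨y, rfl⟩ := E.surj y
    rw [← map_mul, h y, map_mul]

theorem aut_ker (E : Ext π) (α : MulAut K) {k : K} (hk : π k = 1) : π (α k) = 1 := by
  rw [ker_iff E] at hk ⊢
  intro y
  obtain ⟨y, rfl⟩ := α.surjective y
  rw [← map_mul, hk y, map_mul]

theorem aut_congr (E : Ext π) (α : MulAut K) {a b : K} (h : π a = π b) : π (α a) = π (α b) := by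
  obtain ⟨m, hm, rfl⟩ := E.eq_of h
  rw [map_mul, map_mul, aut_ker E α hm, one_mul]

/-- every automorphism of `K` induces an automorphism of `LL` -/
theorem exists_ind (E : Ext π) (α : MulAut K) : ∃ β : MulAut LL, ∀ k, π (α k) = β (π k) := by
  have key : ∀ (α : MulAut K) (k : K), π (α (E.lf (π k))) = π (α k) := fun α k =>
    aut_congr E α (E.map_lf _)
  refine ⟨{ toFun := fun g => π (α (E.lf g))
            invFun := fun g => π (α⁻¹ (E.lf g))
            left_inv := fun g => ?_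
            right_inv := fun g => ?_
            map_mul' := fun g h => ?_ }, fun k => (key α k).symm⟩
  · show π (α⁻¹ (E.lf (π (α (E.lf g))))) = g
    rw [key, MulAut.inv_apply_self, E.map_lf]
  · show π (α (E.lf (π (α⁻¹ (E.lf g))))) = g
    rw [key, MulAut.apply_inv_self, E.map_lf]
  · show π (α (E.lf (g * h))) = π (α (E.lf g)) * π (α (E.lf h))
    rw [← map_mul, ← map_mul]
    refine aut_congr E α ?_
    rw [E.map_lf, map_mul, E.map_lf, E.map_lf]

/-- two automorphisms of a perfect `K` inducing the same automorphism are equal -/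
theorem eq_of_ind (E : Ext π) (hK : ⁅(⊤ : Subgroup K), (⊤ : Subgroup K)⁆ = ⊤) {α α' : MulAut K}
    (h : ∀ k, π (α k) = π (α' k)) : α = α' := by
  have h1 : ∀ k, ∃ m, (∀ g, m * g = g * m) ∧ α k = m * α' k := by
    intro k
    obtain ⟨m, hm, e⟩ := E.eq_of (h k)
    exact ⟨m, E.cen m hm, e⟩
  have h2 : (⊤ : Subgroup K) ≤ (α.toMonoidHom).eqLocus α'.toMonoidHom := by
    rw [← hK, commutator_le]
    intro a _ b _
    show α ⁅a, b⁆ = α' ⁅a, b⁆
    obtain ⟨m, hm, e⟩ := h1 a
    obtain ⟨m', hm', e'⟩ := h1 b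
    rw [commutatorElement_def, map_mul, map_mul, map_mul, map_inv, map_inv, e, e', map_mul, map_mul, map_mul,
      map_inv, map_inv]
    exact comm_norm hm hm'
  ext1 k
  exact h2 (mem_top k)

/-- if the induced automorphism is inner then the automorphism is inner -/
theorem exists_inner (E : Ext π) (hK : ⁅(⊤ : Subgroup K), (⊤ : Subgroup K)⁆ = ⊤) {α : MulAut K} {g : LL}
    (h : ∀ k, π (α k) = g * π k * g⁻¹) : ∃ k, α = MulAut.conj k := by
  obtain ⟨k, rfl⟩ := E.surj g
  refine ⟨k, eq_of_ind E hK fun x => ?_⟩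
  rw [h, MulAut.conj_apply, map_mul, map_mul, map_inv]

/-- **`Out(K)` has exponent two.** -/
theorem outsq (E : Ext π) (hK : ⁅(⊤ : Subgroup K), (⊤ : Subgroup K)⁆ = ⊤) (α : MulAut K) :
    ∃ k, ∀ x, α (α x) = k * x * k⁻¹ := by
  obtain ⟨β, hβ⟩ := exists_ind E α
  have h1 : ∃ g : LL, β * β = MulAut.conj g := by
    obtain ⟨g, rfl | rfl⟩ := exists_aut β
    · exact ⟨g * g, by rw [map_mul]⟩
    · refine ⟨g * gr g, ?_⟩
      calc MulAut.conj g * gr * (MulAut.conj g * gr) = MulAut.conj g * (gr * MulAut.conj g) * gr := by group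
        _ = MulAut.conj g * (MulAut.conj (gr g) * gr) * gr := by rw [conj_mul_aut]
        _ = MulAut.conj g * MulAut.conj (gr g) * (gr * gr) := by group
        _ = MulAut.conj (g * gr g) := by rw [gr_gr, mul_one, map_mul]
  obtain ⟨g, hg⟩ := h1
  obtain ⟨k, hk⟩ := exists_inner E hK (α := α * α) (g := g) fun k => by
    show π (α (α k)) = g * π k * g⁻¹
    rw [hβ, hβ]
    exact congrArg (fun f : MulAut LL => f (π k)) hg
  refine ⟨k, fun x => ?_⟩
  exact congrArg (fun f : MulAut K => f x) hk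

/-- the relations with one letter are invariant under `bar` -/
theorem bar_one_tab : ((List.range 48).all fun r => (List.range 48).all fun s =>
    match cmg r s with
    | [t] => cmg (bar r) (bar s) == [bar t]
    | _ => true) = true := by decide +kernel

theorem bar_one {r s t : ℕ} (hr : r < 48) (hs : s < 48) (h : cmg r s = [t]) : cmg (bar r) (bar s) = [bar t] := by
  have h1 := all_of (all_of bar_one_tab hr) hs
  rw [h] at h1
  exact beq_iff_eq.1 h1

theorem cmg_lt_tab : ((List.range 48).all fun r => (List.range 48).all fun s => (cmg r s).all fun p => decide (p < 48)) =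
    true := by decide +kernel

theorem cmg_lt {r s t : ℕ} (hr : r < 48) (hs : s < 48) (h : cmg r s = [t]) : t < 48 := by
  have h1 := all_of (all_of cmg_lt_tab hr) hs
  rw [h] at h1
  simpa using h1

/-- an automorphism over the graph automorphism maps `A r` to `A (bar r)` -/
theorem map_A_of_gr (E : Ext π) {α : MulAut K} (h : ∀ k, π (α k) = gr (π k)) {r : ℕ} (hr : r < 48) :
    α (E.A r) = E.A (bar r) := by
  have h1 := E.A_unique (B := fun r => α (E.A (bar r))) (fun r hr => by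
    show π (α (E.A (bar r))) = x r
    rw [h, E.map_A (bar_lt hr), gr_x (bar_lt hr), bar_bar hr]) (fun r hr s hs t hst => by
    show α (E.A (bar r)) * α (E.A (bar s)) * (α (E.A (bar r)))⁻¹ * (α (E.A (bar s)))⁻¹ = α (E.A (bar t))
    rw [← E.rel_one (bar_lt hr) (bar_lt hs) (bar_one hr hs hst)]
    simp only [map_mul, map_inv]) (bar_lt hr)
  have h2 : α (E.A (bar (bar r))) = E.A (bar r) := h1
  rwa [bar_bar hr] at h2

theorem conj_aut {Y : Type*} [Group Y] (k : Y) (α : MulAut Y) (y : Y) :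
    (MulAut.conj k * α * (MulAut.conj k)⁻¹) y = k * α (k⁻¹ * y * k) * k⁻¹ := by
  rw [MulAut.mul_apply, MulAut.mul_apply, MulAut.conj_apply, MulAut.conj_inv_apply]

/-- **Outer involutions.** -/
theorem exists_std (E : Ext π) (hK : ⁅(⊤ : Subgroup K), (⊤ : Subgroup K)⁆ = ⊤) {α : MulAut K} (h2 : α * α = 1)
    (hout : ∀ k, α ≠ MulAut.conj k) :
    ∃ k : K, (∀ x, π ((MulAut.conj k * α * (MulAut.conj k)⁻¹) x) = gr (π x)) ∧
      ∀ r < 48, (MulAut.conj k * α * (MulAut.conj k)⁻¹) (E.A r) = E.A (bar r) := by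
  obtain ⟨β, hβ⟩ := exists_ind E α
  have hββ : β * β = 1 := by
    ext1 y
    obtain ⟨y, rfl⟩ := E.surj y
    show β (β (π y)) = π y
    have h3 : α (α y) = y := congrArg (fun f : MulAut K => f y) h2
    rw [← hβ, ← hβ, h3]
  have hβout : ∀ g : LL, β ≠ MulAut.conj g := by
    intro g hg
    obtain ⟨k, hk⟩ := exists_inner E hK (α := α) (g := g) fun k => by
      rw [hβ, hg, MulAut.conj_apply]
    exact hout k hk
  obtain ⟨h, hh⟩ := exists_conj_gr hββ hβout
  obtain ⟨k, rfl⟩ := E.surj h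
  have h1 : ∀ x, π ((MulAut.conj k * α * (MulAut.conj k)⁻¹) x) = gr (π x) := by
    intro x
    rw [← hh, conj_aut, conj_aut]
    simp only [map_mul, map_inv, hβ]
  exact ⟨k, h1, fun r hr => map_A_of_gr E h1 hr⟩

/-- the commutator in the diagonal `S₃` -/
theorem mem_O2_of_std (E : Ext π) {α : MulAut K} (hα : ∀ r < 48, α (E.A r) = E.A (bar r)) {z : K}
    (hker : ∀ m, π m = 1 → m = 1 ∨ m = z) (hzz : z * z = 1) (hαz : α z = z) : E.A 44 * E.A 47 ∈ O2 (fix α) := by
  have c : ∀ {r s : ℕ}, r < 48 → s < 48 → comB r s = true → E.A r * E.A s = E.A s * E.A r := fun hr hs h => E.A_comm hr hs h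
  -- the four letters
  have c1 : E.A 24 * E.A 33 = E.A 33 * E.A 24 := c (by omega) (by omega) (by decide +kernel)
  have c2 : E.A 24 * E.A 14 = E.A 14 * E.A 24 := c (by omega) (by omega) (by decide +kernel)
  have c3 : E.A 23 * E.A 33 = E.A 33 * E.A 23 := c (by omega) (by omega) (by decide +kernel)
  have c4 : E.A 23 * E.A 14 = E.A 14 * E.A 23 := c (by omega) (by omega) (by decide +kernel)
  set t := E.A 24 * E.A 23 with ht
  set t' := E.A 33 * E.A 14 with ht'
  have hαt : α t = t' := by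
    rw [ht, ht', map_mul, hα 24 (by omega), hα 23 (by omega)]
    rfl
  have hαt' : α t' = t := by
    rw [ht, ht', map_mul, hα 33 (by omega), hα 14 (by omega)]
    rfl
  have htt : t * t' = t' * t := by
    calc t * t' = E.A 24 * (E.A 23 * E.A 33) * E.A 14 := by rw [ht, ht']; group
      _ = (E.A 24 * E.A 33) * (E.A 23 * E.A 14) := by rw [c3]; group
      _ = E.A 33 * (E.A 24 * E.A 14) * E.A 23 := by rw [c1, c4]; group
      _ = t' * t := by rw [c2, ht, ht']; group
  -- `t³` is central of order at most two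
  have h3 : π (t ^ 3) = 1 := by
    rw [map_pow, ht, map_mul, E.map_A (by omega), E.map_A (by omega)]
    have hb := opp_all (r := 24) (by omega)
    rw [show 47 - 24 = 23 from rfl] at hb
    calc (x 24 * x 23) ^ 3 = (x 24 * x 23 * x 24) * (x 23 * x 24 * x 23) := by
          rw [pow_three]; group
      _ = (x 24 * x 23 * x 24) * (x 24 * x 23 * x 24) := by rw [← hb]
      _ = x 24 * x 23 * (x 24 * x 24) * x 23 * x 24 := by group
      _ = x 24 * (x 23 * x 23) * x 24 := by rw [x_mul_self]; group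
      _ = 1 := by rw [x_mul_self, mul_one, x_mul_self]
  have h3' : t' ^ 3 = t ^ 3 := by
    have h4 : α (t ^ 3) = t ^ 3 := by
      rcases hker _ h3 with h | h
      · rw [h, map_one]
      · rw [h, hαz]
    rw [map_pow, hαt] at h4
    exact h4
  have hw3 : (t * t') ^ 3 = 1 := by
    have hc : Commute t t' := htt
    rw [hc.mul_pow, h3']
    rcases hker _ h3 with h | h
    · rw [h, mul_one]
    · rw [h, hzz]
  have hwfix : t * t' ∈ fix α := by
    rw [mem_fix, map_mul, hαt, hαt', htt]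
  have hwO : t * t' ∈ O2 (fix α) := by
    refine mem_O2_of_odd hwfix ?_
    have h5 : orderOf (t * t') ∣ 3 := orderOf_dvd_of_pow_eq_one hw3
    rcases (Nat.dvd_prime Nat.prime_three).1 h5 with h | h
    · rw [h]; decide
    · rw [h]; decide
  -- the element `y = A 46 * A 40`
  have d1 : E.A 46 * E.A 40 = E.A 40 * E.A 46 := c (by omega) (by omega) (by decide +kernel)
  have hyfix : E.A 46 * E.A 40 ∈ fix α := by
    rw [mem_fix, map_mul, hα 46 (by omega), hα 40 (by omega)]
    exact d1.symm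
  have hcomm : t * t' * ((E.A 46 * E.A 40) * (t * t')⁻¹ * (E.A 46 * E.A 40)⁻¹) ∈ O2 (fix α) :=
    mul_mem hwO (O2_normal hyfix (inv_mem hwO))
  -- the action of `t` and `t'`
  have r1 : E.A 24 * E.A 46 * (E.A 24)⁻¹ * (E.A 46)⁻¹ = E.A 47 := E.rel_one (by omega) (by omega) (by decide +kernel)
  have r2 : E.A 33 * E.A 40 * (E.A 33)⁻¹ * (E.A 40)⁻¹ = E.A 44 := E.rel_one (by omega) (by omega) (by decide +kernel)
  have e1 : E.A 23 * E.A 46 = E.A 46 * E.A 23 := c (by omega) (by omega) (by decide +kernel)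
  have e2 : E.A 14 * E.A 40 = E.A 40 * E.A 14 := c (by omega) (by omega) (by decide +kernel)
  have e3 : E.A 24 * E.A 40 = E.A 40 * E.A 24 := c (by omega) (by omega) (by decide +kernel)
  have e4 : E.A 23 * E.A 40 = E.A 40 * E.A 23 := c (by omega) (by omega) (by decide +kernel)
  have e5 : E.A 33 * E.A 46 = E.A 46 * E.A 33 := c (by omega) (by omega) (by decide +kernel)
  have e6 : E.A 14 * E.A 46 = E.A 46 * E.A 14 := c (by omega) (by omega) (by decide +kernel)
  have e7 : E.A 24 * E.A 47 = E.A 47 * E.A 24 := c (by omega) (by omega) (by decide +kernel)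
  have e8 : E.A 33 * E.A 47 = E.A 47 * E.A 33 := c (by omega) (by omega) (by decide +kernel)
  have e9 : E.A 14 * E.A 47 = E.A 47 * E.A 14 := c (by omega) (by omega) (by decide +kernel)
  have e10 : E.A 46 * E.A 44 = E.A 44 * E.A 46 := c (by omega) (by omega) (by decide +kernel)
  have e11 : E.A 44 * E.A 47 = E.A 47 * E.A 44 := c (by omega) (by omega) (by decide +kernel)
  have ft : t * E.A 46 * t⁻¹ = E.A 47 * E.A 46 := by
    calc t * E.A 46 * t⁻¹ = E.A 24 * (E.A 23 * E.A 46) * (E.A 23)⁻¹ * (E.A 24)⁻¹ := by rw [ht]; group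
      _ = (E.A 24 * E.A 46 * (E.A 24)⁻¹ * (E.A 46)⁻¹) * E.A 46 := by rw [e1]; group
      _ = E.A 47 * E.A 46 := by rw [r1]
  have ft' : t' * E.A 40 * t'⁻¹ = E.A 44 * E.A 40 := by
    calc t' * E.A 40 * t'⁻¹ = E.A 33 * (E.A 14 * E.A 40) * (E.A 14)⁻¹ * (E.A 33)⁻¹ := by rw [ht']; group
      _ = (E.A 33 * E.A 40 * (E.A 33)⁻¹ * (E.A 40)⁻¹) * E.A 40 := by rw [e2]; group
      _ = E.A 44 * E.A 40 := by rw [r2]
  have gt : t * E.A 40 * t⁻¹ = E.A 40 := by
    calc t * E.A 40 * t⁻¹ = E.A 24 * (E.A 23 * E.A 40) * (E.A 23)⁻¹ * (E.A 24)⁻¹ := by rw [ht]; group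
      _ = E.A 24 * E.A 40 * (E.A 24)⁻¹ := by rw [e4]; group
      _ = E.A 40 := by rw [e3]; group
  have gt2 : t' * E.A 46 * t'⁻¹ = E.A 46 := by
    calc t' * E.A 46 * t'⁻¹ = E.A 33 * (E.A 14 * E.A 46) * (E.A 14)⁻¹ * (E.A 33)⁻¹ := by rw [ht']; group
      _ = E.A 33 * E.A 46 * (E.A 33)⁻¹ := by rw [e6]; group
      _ = E.A 46 := by rw [e5]; group
  have gt3 : t' * E.A 47 * t'⁻¹ = E.A 47 := by
    calc t' * E.A 47 * t'⁻¹ = E.A 33 * (E.A 14 * E.A 47) * (E.A 14)⁻¹ * (E.A 33)⁻¹ := by rw [ht']; group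
      _ = E.A 33 * E.A 47 * (E.A 33)⁻¹ := by rw [e9]; group
      _ = E.A 47 := by rw [e8]; group
  have key : t * t' * (E.A 46 * E.A 40) * (t * t')⁻¹ = E.A 44 * E.A 47 * (E.A 46 * E.A 40) := by
    calc t * t' * (E.A 46 * E.A 40) * (t * t')⁻¹ = t' * (t * (E.A 46 * E.A 40) * t⁻¹) * t'⁻¹ := by
          rw [htt]; group
      _ = t' * ((t * E.A 46 * t⁻¹) * (t * E.A 40 * t⁻¹)) * t'⁻¹ := by group
      _ = t' * (E.A 47 * E.A 46 * E.A 40) * t'⁻¹ := by rw [ft, gt]
      _ = (t' * E.A 47 * t'⁻¹) * (t' * E.A 46 * t'⁻¹) * (t' * E.A 40 * t'⁻¹) := by group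
      _ = E.A 47 * (E.A 46 * E.A 44) * E.A 40 := by rw [gt3, gt2, ft']; group
      _ = E.A 44 * E.A 47 * (E.A 46 * E.A 40) := by rw [e10, e11]; group
  have e : E.A 44 * E.A 47 = t * t' * ((E.A 46 * E.A 40) * (t * t')⁻¹ * (E.A 46 * E.A 40)⁻¹) := by
    calc E.A 44 * E.A 47 = E.A 44 * E.A 47 * (E.A 46 * E.A 40) * (E.A 46 * E.A 40)⁻¹ := by group
      _ = (t * t' * (E.A 46 * E.A 40) * (t * t')⁻¹) * (E.A 46 * E.A 40)⁻¹ := by rw [key]
      _ = _ := by group
  rw [e]
  exact hcomm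

/-- **The field `out` of `Def.Facts`.** -/
theorem out (E : Ext π) (hK : ⁅(⊤ : Subgroup K), (⊤ : Subgroup K)⁆ = ⊤) {z : K}
    (hker : ∀ m, π m = 1 ↔ m = 1 ∨ m = z) (hz : z ≠ 1) (hzz : z * z = 1) {α : MulAut K}
    (h2 : ∀ x, α (α x) = x) (hout : ∀ k, ∃ x, α x ≠ k * x * k⁻¹) :
    ∃ k, α k * k⁻¹ ≠ 1 ∧ α k * k⁻¹ ∈ O2 (fix α) := by
  obtain ⟨k, -, hk⟩ := exists_std E hK (α := α) (by ext1 y; exact h2 y) (by
    intro k hk
    obtain ⟨y, hy⟩ := hout k
    exact hy (congrArg (fun f : MulAut K => f y) hk))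
  set α' := MulAut.conj k * α * (MulAut.conj k)⁻¹ with hα'
  have hαz : ∀ γ : MulAut K, γ z = z := by
    intro γ
    have h3 := aut_ker E γ ((hker z).2 (Or.inr rfl))
    rcases (hker _).1 h3 with h4 | h4
    · exact absurd (γ.injective (by rw [h4, map_one])) hz
    · exact h4
  have h1 := mem_O2_of_std E (α := α') hk (fun m hm => (hker m).1 hm) hzz (hαz α')
  -- go back to `α`
  have hfix : (fix α').map (MulAut.conj k⁻¹).toMonoidHom = fix α := by
    ext y
    constructor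
    · rintro ⟨w, hw, rfl⟩
      have hw' : α' w = w := hw
      rw [hα', conj_aut] at hw'
      have e0 : (MulAut.conj k⁻¹).toMonoidHom w = k⁻¹ * w * k := by
        show k⁻¹ * w * k⁻¹⁻¹ = _
        rw [inv_inv]
      rw [e0, mem_fix]
      have : α (k⁻¹ * w * k) = k⁻¹ * (k * α (k⁻¹ * w * k) * k⁻¹) * k := by group
      rw [this, hw']
    · intro hy
      have hy' : α y = y := hy
      refine ⟨k * y * k⁻¹, ?_, ?_⟩
      · have h5 : α' (k * y * k⁻¹) = k * y * k⁻¹ := by
          rw [hα', conj_aut]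
          have : k⁻¹ * (k * y * k⁻¹) * k = y := by group
          rw [this, hy']
        exact h5
      · show k⁻¹ * (k * y * k⁻¹) * k⁻¹⁻¹ = y
        group
  have e : α (k⁻¹ * E.A 47 * k) * (k⁻¹ * E.A 47 * k)⁻¹ = (MulAut.conj k⁻¹).toMonoidHom (E.A 44 * E.A 47) := by
    have h4 := hk 47 (by omega)
    rw [hα', conj_aut, show bar 47 = 44 from rfl] at h4
    have h5 : α (k⁻¹ * E.A 47 * k) = k⁻¹ * E.A 44 * k := by rw [← h4]; group
    show _ = k⁻¹ * (E.A 44 * E.A 47) * k⁻¹⁻¹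
    rw [h5]
    have h6 : (E.A 47)⁻¹ = E.A 47 := E.A_inv (by omega)
    calc k⁻¹ * E.A 44 * k * (k⁻¹ * E.A 47 * k)⁻¹ = k⁻¹ * (E.A 44 * (E.A 47)⁻¹) * k := by group
      _ = k⁻¹ * (E.A 44 * E.A 47) * k⁻¹⁻¹ := by rw [h6, inv_inv]
  refine ⟨k⁻¹ * E.A 47 * k, ?_, ?_⟩
  · rw [e]
    intro h3
    have h4 : E.A 44 * E.A 47 = 1 := (MulAut.conj k⁻¹).injective (by rw [map_one]; exact h3)
    have h5 := congrArg π h4
    rw [map_mul, E.map_A (by omega), E.map_A (by omega), map_one] at h5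
    have h6 : x 44 = x 47 := by rw [← x_inv 47]; exact eq_inv_of_mul_eq_one_left h5
    have := x_inj (by omega) (by omega) h6
    omega
  · rw [e, ← hfix, map_O2 (f := (MulAut.conj k⁻¹).toMonoidHom) (MulAut.conj k⁻¹).injective]
    exact ⟨_, h1, rfl⟩

end Cfsg.Agent.OddHalf.D9.FFour.Out
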