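import Cfsg.Agent.FourTwo.Mult
import Cfsg.Agent.OddHalf.D9.Cut

/-!
# The 2-part of the multiplier of `F₄(2)` (the case `XF42` of the field `two` of `Cut.Mult`)
-/

set_option autoImplicit false

namespace Cfsg.Agent.OddHalf.D9.FFour.MultTwo

open Subgroup Cfsg Cfsg.Agent.FourTwo.Base

universe u

/-- `F₄(2)` -/
theorem exists_equiv {X : Type u} [Group X] (h : Cut.XF42 X) : Nonempty (X ≃* LL) := by
  obtain ⟨F, i1, i2, h3, ⟨e⟩⟩ := h
  obtain ⟨e'⟩ := Cfsg.Agent.FourTwo.Mult.exists_equiv F h3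
  exact ⟨e.trans e'⟩

/-- Perfect groups with quotient `F₄(2)` modulo the centre have a centre of order 1 or 2. -/
theorem card_center {K : Type u} [Group K] (hp : commutator K = ⊤) (h : Cut.XF42 (K ⧸ center K)) :
    Nat.card ↥(center K) ∣ 2 := by
  obtain ⟨e⟩ := exists_equiv h
  exact Cfsg.Agent.FourTwo.Mult.card_center hp e

theorem two (K : Type u) [Group K] (hq : Cut.QsCyc K) (h : Cut.XF42 (K ⧸ center K)) :
    Nat.card ↥(center K) ∣ 2 :=
  card_center hq.2.1.1.commutator_eq_top h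

end Cfsg.Agent.OddHalf.D9.FFour.MultTwo
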