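import Cfsg.Agent.OddHalf.D9.FFour.Sys
import Cfsg.Agent.OddHalf.D9.FFour.MultTwo

/-!
# Existence of the system of lifts

* `exists_sys`: a perfect central extension `π : K → F₄(2)` with nontrivial kernel has a system of lifts;
* `exists_sys_center`: a perfect group `K` with `K / Z(K) ≃ F₄(2)` and `Z(K) ≠ 1`.
-/

set_option autoImplicit false

namespace Cfsg.Agent.OddHalf.D9.FFour.SysOf

open Subgroup
open Cfsg.Agent.FourTwo.Base (LL x)
open Cfsg.Agent.FourTwo.Comm (cmg)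
open Cfsg.Agent.FourTwo.Lift
open Cfsg.Agent.OddHalf.D9.FFour.Sys

universe u

variable {K : Type u} [Group K]

theorem wA_eq (f : ℕ → K) (w : List ℕ) : wA f w = fw f w := rfl

/-- the system of a perfect central extension -/
noncomputable def sysOf {π : K →* LL} (E : Ext π) (hp : commutator K = ⊤) (hn : E.m₀ ≠ 1) : Sys K where
  π := π
  f := E.A
  z := E.m₀
  surj := E.surj
  perf := hp
  ne := hn
  zz := E.m₀_sq
  ker := by
    intro k
    constructor
    · exact fun h => Cfsg.Agent.FourTwo.Mult.ker_two E hp h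
    · rintro (rfl | rfl)
      · exact map_one π
      · exact E.map_m₀
  fx := fun r hr => E.map_A hr
  ff := fun r hr => E.A_sq hr
  eqv := by
    intro r s hr hs h k hk
    rw [← mul_inv_eq_iff_eq_mul]
    refine E.A_conj hr hs h ?_
    rw [hk, mul_inv_cancel_right]
  cm1 := fun r s hr hs h1 h2 h3 => E.sys.cm1 hr hs h1 h2 h3
  cm2 := by
    intro r s hr hs h
    have h1 := E.sys.cm2 hr hs h
    have e : E.A s * (fw E.A (cmg r s) * E.m₀) * E.A r = E.m₀ * (E.A s * wA E.A (cmg r s) * E.A r) := by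
      rw [wA_eq, ← E.m₀_cen, ← mul_assoc (E.A s) E.m₀, ← E.m₀_cen (E.A s)]
      simp only [mul_assoc]
    rw [e]
    exact h1

theorem exists_sys {π : K →* LL} (E : Ext π) (hp : commutator K = ⊤) (hn : ∃ k, π k = 1 ∧ k ≠ 1) :
    ∃ S : Sys K, S.π = π := by
  obtain ⟨k, hk, hk1⟩ := hn
  have hm : E.m₀ ≠ 1 := by
    intro h
    rcases Cfsg.Agent.FourTwo.Mult.ker_two E hp hk with h1 | h1
    · exact hk1 h1
    · exact hk1 (h1.trans h)
  exact ⟨sysOf E hp hm, rfl⟩

/-- `K` perfect, `K / Z(K) ≃ F₄(2)`, `Z(K) ≠ 1` -/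
theorem exists_sys_center (hp : commutator K = ⊤) (h : Cut.XF42 (K ⧸ center K)) (hc : center K ≠ ⊥) :
    ∃ S : Sys K, ∀ k, k ∈ center K ↔ k = 1 ∨ k = S.z := by
  obtain ⟨e⟩ := MultTwo.exists_equiv h
  have E := Cfsg.Agent.FourTwo.Mult.ext_center e
  obtain ⟨k, hk, hk1⟩ := exists_ne_one_of_nontrivial_center hc
  obtain ⟨S, hS⟩ := exists_sys E hp ⟨k, (Cfsg.Agent.FourTwo.Mult.mem_center_iff_map e).2 hk, hk1⟩
  refine ⟨S, fun k => ?_⟩
  rw [← Cfsg.Agent.FourTwo.Mult.mem_center_iff_map e, ← S.ker k, hS]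
where
  exists_ne_one_of_nontrivial_center {K : Type u} [Group K] (hc : center K ≠ ⊥) : ∃ k ∈ center K, k ≠ 1 := by
    by_contra h
    push Not at h
    exact hc (by rw [eq_bot_iff]; exact fun k hk => mem_bot.2 (h k hk))

end Cfsg.Agent.OddHalf.D9.FFour.SysOf
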