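import Cfsg.Agent.OddHalf.D9.FFour.Kill
import Cfsg.Agent.OddHalf.D9.AmbOf

/-!
# D9, row `2.F₄(2)`: from the facts on `K` (`FFour.Def.Facts`) to the field `f42` of `Cut.Rows`
-/

set_option autoImplicit false

namespace Cfsg.Agent.OddHalf.D9.FFour.Row

open Subgroup Cfsg Cfsg.Agent.OddHalf.Iface Cfsg.Agent.OddHalf.D9.FFour.Def

universe u

theorem row (facts : ∀ (K : Type u) [Group K] [Finite K], IsQuasisimple K → Nat.card ↥(center K) = 2 →
      Cut.XF42 (K ⧸ center K) → ∀ z : K, z ≠ 1 → z * z = 1 → (∀ y, z * y = y * z) → Facts K z) :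
    Cut.Row.{u} (fun K _ => Cut.Two (fun X _ => Cut.XF42 X) K) :=
  AmbOf.row_two (fun X _ => Cut.XF42 X) (fun K _ z => Facts K z) facts fun G _ C K z A F => by
    have := C.fin
    have := C.simple
    exact Kill.kill A C.na F

end Cfsg.Agent.OddHalf.D9.FFour.Row
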