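import Cfsg.Agent.OddHalf.D9.FFour.Bad
import Cfsg.Agent.OddHalf.D9.FFour.SysOf
import Cfsg.Agent.OddHalf.D9.FFour.Out
import Cfsg.Agent.OddHalf.D9.FFour.Row

/-!
# D9, row `2.F₄(2)`: the facts on `K` and the row

* `facts`: `Facts K z` for every perfect `K` with `|Z(K)| = 2` and `K / Z(K) ≃ F₄(2)`;
* `f42`: the field `f42` of `Cut.Rows`.
-/

set_option autoImplicit false

namespace Cfsg.Agent.OddHalf.D9.FFour.Main

open Subgroup Cfsg Cfsg.Agent.OddHalf.Iface Cfsg.Agent.OddHalf.D9.FFour.Def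
open Cfsg.Agent.FourTwo.Lift (Ext)

universe u

/-- the facts from a system of lifts -/
theorem facts_of_sys {K : Type u} [Group K] (S : Sys.Sys K) (hc : ∀ k, k ∈ center K ↔ k = 1 ∨ k = S.z) :
    Facts K S.z := by
  have E : Ext S.π := ⟨S.surj, by
    intro m hm g
    rcases (S.ker m).1 hm with rfl | rfl
    · rw [one_mul, mul_one]
    · exact (S.zc g).symm⟩
  have hK : ⁅(⊤ : Subgroup K), (⊤ : Subgroup K)⁆ = ⊤ := S.perf
  refine ⟨S.ne, S.zz, ?_, Inv.sq S, fun e h1 h2 h3 => Bad.inv S h1 h2 h3, Out.outsq E hK, ?_⟩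
  · intro x
    rw [← hc x, mem_center_iff]
    exact ⟨fun h y => (h y).symm, fun h y => (h y).symm⟩
  · intro α h1 h2
    exact Out.out E hK S.ker S.ne S.zz h1 h2

/-- **The facts on `2.F₄(2)`.** -/
theorem facts (K : Type u) [Group K] (hp : commutator K = ⊤) (hX : Cut.XF42 (K ⧸ center K)) (z : K) (hz : z ≠ 1)
    (hzc : ∀ y, z * y = y * z) : Facts K z := by
  have h0 : z ∈ center K := mem_center_iff.2 fun y => (hzc y).symm
  have h1 : center K ≠ ⊥ := by
    intro h
    rw [h, mem_bot] at h0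
    exact hz h0
  obtain ⟨S, hS⟩ := SysOf.exists_sys_center hp hX h1
  rcases (hS z).1 h0 with h2 | h2
  · exact absurd h2 hz
  · rw [h2]
    exact facts_of_sys S hS

/-- **The field `f42` of `Cut.Rows`.** -/
theorem f42 : Cut.Row.{u} (fun K _ => Cut.Two (fun X _ => Cut.XF42 X) K) :=
  Row.row fun K _ _ hq _ hX z hz _ hzc => facts K hq.1.commutator_eq_top hX z hz hzc

end Cfsg.Agent.OddHalf.D9.FFour.Main
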