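import Cfsg.Agent.FourTwo.Cent
import Cfsg.Agent.FourTwo.Classes

/-!
# The automorphisms of `F₄(2)`

* `exists_aut`: every automorphism of `LL` is `conj g` or `conj g ∘ graph`.
-/

set_option autoImplicit false

namespace Cfsg.Agent.OddHalf.D9.FFour.AutLL

open Cfsg.Agent.ChevalleyStructure.TwF4.Rel (refl sp)
open Cfsg.Agent.ChevalleyStructure.TwF4.NRoot (sp_lt)
open Cfsg.Agent.ChevalleyStructure.TwF4.Torus (all_of)
open Cfsg.Agent.FourTwo.Base Cfsg.Agent.FourTwo.Comm Cfsg.Agent.FourTwo.BN Cfsg.Agent.FourTwo.Par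
  Cfsg.Agent.FourTwo.Cent

/-! ### `V' = RG negP` -/

/-- the negative roots -/
def negP (r : ℕ) : Bool := decide (r < 24)

theorem negP_iff {r : ℕ} : negP r = true ↔ r < 24 := decide_eq_true_iff

/-- the subgroup of the negative root elements -/
abbrev V' : Subgroup LL := RG negP

theorem V'_le : V' ≤ V := RG_le fun _ _ h => x_mem_V (negP_iff.1 h)

theorem eq_one_of {g : LL} (h1 : g ∈ U) (h2 : g ∈ V') : g = 1 := by
  have h : g ∈ U ⊓ V := ⟨h1, V'_le h2⟩
  rw [U_inf_V, Subgroup.mem_bot] at h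
  exact h

theorem conj_RG {w : LL} {P Q : ℕ → Bool} (h : ∀ r < 48, P r = true → w * x r * w⁻¹ ∈ RG Q) {g : LL} (hg : g ∈ RG P) :
    w * g * w⁻¹ ∈ RG Q := by
  have h1 : RG P ≤ (RG Q).comap (MulAut.conj w).toMonoidHom := RG_le fun r hr hP => by
    rw [Subgroup.mem_comap]
    exact h r hr hP
  have h2 := h1 hg
  rw [Subgroup.mem_comap] at h2
  exact h2

theorem conj_RG' {w : LL} {P Q : ℕ → Bool} (h : ∀ r < 48, P r = true → w⁻¹ * x r * w ∈ RG Q) {g : LL} (hg : g ∈ RG P) :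
    w⁻¹ * g * w ∈ RG Q := by
  have := conj_RG (w := w⁻¹) (P := P) (Q := Q) (by simpa using h) hg
  simpa using this

theorem w0_inv_conj {r : ℕ} (hr : r < 48) : w0⁻¹ * x r * w0 = x (47 - r) := by
  have h := w0_conj (show 47 - r < 48 by omega)
  rw [show 47 - (47 - r) = r by omega] at h
  rw [← h]
  group

theorem w0_U {g : LL} (hg : g ∈ U) : w0 * g * w0⁻¹ ∈ V' := by
  rw [U_eq] at hg
  refine conj_RG (fun r hr h => ?_) hg
  rw [w0_conj hr]
  have : 24 ≤ r := of_decide_eq_true h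
  exact x_mem_RG (by omega) (negP_iff.2 (by omega))

theorem w0_V {g : LL} (hg : g ∈ V') : w0⁻¹ * g * w0 ∈ U := by
  rw [U_eq]
  refine conj_RG' (fun r hr h => ?_) hg
  rw [w0_inv_conj hr]
  have := negP_iff.1 h
  exact x_mem_RG (by omega) (decide_eq_true (by omega))

theorem w0_U' {g : LL} (hg : g ∈ U) : w0⁻¹ * g * w0 ∈ V' := by
  rw [U_eq] at hg
  refine conj_RG' (fun r hr h => ?_) hg
  rw [w0_inv_conj hr]
  have : 24 ≤ r := of_decide_eq_true h
  exact x_mem_RG (by omega) (negP_iff.2 (by omega))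

theorem w0_V' {g : LL} (hg : g ∈ V') : w0 * g * w0⁻¹ ∈ U := by
  rw [U_eq]
  refine conj_RG (fun r hr h => ?_) hg
  rw [w0_conj hr]
  have := negP_iff.1 h
  exact x_mem_RG (by omega) (decide_eq_true (by omega))

/-! ### fixing `U` and `V'` -/

/-- The automorphism maps the subgroup onto itself. -/
def Fix (α : MulAut LL) (H : Subgroup LL) : Prop := ∀ g, α g ∈ H ↔ g ∈ H

/-- for finite subgroups one inclusion suffices -/
theorem fix_of_le {α : MulAut LL} {H : Subgroup LL} (h : ∀ g ∈ H, α g ∈ H) : Fix α H := by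
  have h1 : H.map α.toMonoidHom ≤ H := by
    rintro _ ⟨g, hg, rfl⟩
    exact h g hg
  have h2 : H.map α.toMonoidHom = H := by
    apply Subgroup.eq_of_le_of_card_ge h1
    rw [Subgroup.card_map_of_injective (f := α.toMonoidHom) α.injective]
  intro g
  constructor
  · intro hg
    rw [← h2] at hg
    obtain ⟨g', hg', e⟩ := hg
    have : g' = g := α.injective e
    rwa [← this]
  · exact h g

theorem exists_fix_U (α : MulAut LL) : ∃ g : LL, Fix (MulAut.conj g * α) U := by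
  have hQ : IsPGroup 2 (U.map α.toMonoidHom) := (Cfsg.Agent.FourTwo.Classes.isPGroup_UL).map _
  obtain ⟨y, hy⟩ := Cfsg.Agent.FourTwo.Classes.exists_conj_le hQ
  exact ⟨y, fix_of_le fun g hg => hy _ ⟨g, hg, rfl⟩⟩

theorem exists_fix_V {α : MulAut LL} (hα : Fix α U) : ∃ u ∈ U, Fix (MulAut.conj u * α) U ∧ Fix (MulAut.conj u * α) V' := by
  obtain ⟨u, hu, w, hw, v, hv, e⟩ := bruhat (α w0)
  obtain ⟨σ, -, -, hσ⟩ := exists_perm hw
  have key : ∀ r, 24 ≤ r → ∀ hr : r < 48, (σ ⟨r, hr⟩).val < 24 := by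
    intro r h24 hr
    by_contra hcon
    have h1 := hσ ⟨r, hr⟩
    set s := (σ ⟨r, hr⟩).val with hs
    have hs48 : s < 48 := (σ ⟨r, hr⟩).2
    have hy : u * x s * u⁻¹ ∈ U := mul_mem (mul_mem hu (x_mem_U (by omega) hs48)) (inv_mem hu)
    -- `t ∈ U` with `α t = v⁻¹ x_r v`
    have ht : α⁻¹ (v⁻¹ * x r * v) ∈ U := by
      rw [← hα, MulAut.apply_inv_self]
      exact mul_mem (mul_mem (inv_mem hv) (x_mem_U h24 hr)) hv
    have e1 : α (w0 * α⁻¹ (v⁻¹ * x r * v) * w0⁻¹) = u * x s * u⁻¹ := by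
      rw [map_mul, map_mul, map_inv, MulAut.apply_inv_self, e, ← h1]
      show u * w * v * (v⁻¹ * x r * v) * (u * w * v)⁻¹ = u * (w * x r * w⁻¹) * u⁻¹
      group
    have h2 : w0 * α⁻¹ (v⁻¹ * x r * v) * w0⁻¹ ∈ U := by
      rw [← hα, e1]
      exact hy
    have h3 := eq_one_of h2 (w0_U ht)
    rw [h3, map_one] at e1
    have h4 : x s = 1 := by
      have : x s = u⁻¹ * (u * x s * u⁻¹) * u := by group
      rw [this, ← e1]
      group
    exact x_ne_one hs48 h4
  have hU' : Fix (MulAut.conj u⁻¹ * α) U := fix_of_le fun g hg => by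
    show u⁻¹ * α g * u⁻¹⁻¹ ∈ U
    exact mul_mem (mul_mem (inv_mem hu) ((hα g).2 hg)) (inv_mem (inv_mem hu))
  refine ⟨u⁻¹, inv_mem hu, hU', fix_of_le fun g hg => ?_⟩
  have ht := w0_V hg
  have e2 : g = w0 * (w0⁻¹ * g * w0) * w0⁻¹ := by group
  rw [e2]
  generalize w0⁻¹ * g * w0 = t at ht
  show u⁻¹ * α (w0 * t * w0⁻¹) * u⁻¹⁻¹ ∈ V'
  rw [map_mul, map_mul, map_inv, e]
  have e3 : u⁻¹ * (u * w * v * α t * (u * w * v)⁻¹) * u⁻¹⁻¹ = w * (v * α t * v⁻¹) * w⁻¹ := by group
  rw [e3]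
  have h5 : v * α t * v⁻¹ ∈ U := mul_mem (mul_mem hv ((hα t).2 ht)) (inv_mem hv)
  rw [U_eq] at h5
  refine conj_RG (fun r hr h => ?_) h5
  have h24 : 24 ≤ r := of_decide_eq_true h
  rw [show w * x r * w⁻¹ = x (σ ⟨r, hr⟩).val from hσ ⟨r, hr⟩]
  exact x_mem_RG (σ ⟨r, hr⟩).2 (negP_iff.2 (key r h24 hr))

/-! ### minimal parabolics -/

/-- the roots of the minimal parabolic subgroup -/
def pj (a : ℕ) (r : ℕ) : Bool := decide (24 ≤ r) || r == 47 - a

/-- its unipotent radical -/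
def uj (a : ℕ) (r : ℕ) : Bool := decide (24 ≤ r) && !(r == a)

/-- its Levi factor -/
def lj (a : ℕ) (r : ℕ) : Bool := r == a || r == 47 - a

theorem norm_tab : ∀ i < 4, normB (lj (sp i)) (uj (sp i)) = true := by decide +kernel

theorem closed_tab : ∀ i < 4, closedB (uj (sp i)) = true := by decide +kernel

theorem sp_ge {i : ℕ} : 24 ≤ sp i := by
  unfold sp
  split <;> omega

theorem sp_lt' {i : ℕ} : sp i < 48 := by
  unfold sp
  split <;> omega

/-- the six elements of the Levi factor -/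
def Six (a : ℕ) (s : LL) : Prop :=
  s = 1 ∨ s = x a ∨ s = x (47 - a) ∨ s = x a * x (47 - a) ∨ s = x (47 - a) * x a ∨ s = x a * x (47 - a) * x a

theorem Six.mem {a : ℕ} (ha : a < 48) {s : LL} (hs : Six a s) : s ∈ RG (lj a) := by
  have h1 : x a ∈ RG (lj a) := x_mem_RG ha (by simp [lj])
  have h2 : x (47 - a) ∈ RG (lj a) := x_mem_RG (by omega) (by simp [lj])
  rcases hs with rfl | rfl | rfl | rfl | rfl | rfl
  · exact one_mem _
  · exact h1
  · exact h2
  · exact mul_mem h1 h2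
  · exact mul_mem h2 h1
  · exact mul_mem (mul_mem h1 h2) h1

theorem Six.mul_left {a : ℕ} {s : LL} (hs : Six a s) : Six a (x a * s) := by
  unfold Six
  rcases hs with rfl | rfl | rfl | rfl | rfl | rfl
  · simp
  · left; exact x_mul_self a
  · simp
  · right; right; left; rw [← mul_assoc, x_mul_self, one_mul]
  · right; right; right; right; right; rw [← mul_assoc]
  · right; right; right; right; left
    rw [← mul_assoc, ← mul_assoc, x_mul_self, one_mul]

theorem Six.mul_left' {a : ℕ} (ha : a < 48) {s : LL} (hs : Six a s) : Six a (x (47 - a) * s) := by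
  have hb := opp_all ha
  unfold Six
  rcases hs with rfl | rfl | rfl | rfl | rfl | rfl
  · simp
  · simp
  · left; exact x_mul_self _
  · right; right; right; right; right
    rw [← mul_assoc, ← hb]
  · right; left; rw [← mul_assoc, x_mul_self, one_mul]
  · right; right; right; left
    rw [hb, ← mul_assoc, ← mul_assoc, x_mul_self, one_mul]

theorem pj_split {i : ℕ} (hi : i < 4) {g : LL} (hg : g ∈ RG (pj (sp i))) :
    ∃ s u : LL, Six (sp i) s ∧ u ∈ RG (uj (sp i)) ∧ g = s * u := by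
  have ha := sp_lt' (i := i)
  have step : ∀ r < 48, pj (sp i) r = true → ∀ y : LL, (∃ s u : LL, Six (sp i) s ∧ u ∈ RG (uj (sp i)) ∧ y = s * u) →
      ∃ s u : LL, Six (sp i) s ∧ u ∈ RG (uj (sp i)) ∧ x r * y = s * u := by
    rintro r hr hr' _ ⟨s, u, hs, hu, rfl⟩
    by_cases h1 : r = sp i
    · subst h1
      exact ⟨_, u, hs.mul_left, hu, by rw [mul_assoc]⟩
    by_cases h2 : r = 47 - sp i
    · subst h2
      exact ⟨_, u, hs.mul_left' ha, hu, by rw [mul_assoc]⟩
    · have h3 : 24 ≤ r := by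
        unfold pj at hr'
        rw [Bool.or_eq_true, decide_eq_true_iff, beq_iff_eq] at hr'
        exact hr'.resolve_right h2
      have h4 : x r ∈ RG (uj (sp i)) := x_mem_RG hr (by simp [uj, h3, h1])
      have h5 := conj_mem (norm_tab i hi) (inv_mem (hs.mem ha)) h4
      rw [inv_inv] at h5
      refine ⟨s, s⁻¹ * x r * s * u, hs, mul_mem h5 hu, by group⟩
  refine Subgroup.closure_induction_left
    (p := fun (g : LL) _ => ∃ s u : LL, Six (sp i) s ∧ u ∈ RG (uj (sp i)) ∧ g = s * u) ?_ ?_ ?_ hg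
  · exact ⟨1, 1, Or.inl rfl, one_mem _, by simp⟩
  · rintro _ ⟨r, hr, hr', rfl⟩ y _ hy
    exact step r hr hr' y hy
  · rintro _ ⟨r, hr, hr', rfl⟩ y _ hy
    rw [x_inv]
    exact step r hr hr' y hy

/-- `P_i ∩ V' = ⟨x_{-p_i}⟩` -/
theorem pj_inf_V {i : ℕ} (hi : i < 4) {g : LL} (hg : g ∈ RG (pj (sp i))) (hV : g ∈ V') : g = 1 ∨ g = x (47 - sp i) := by
  have ha := sp_lt' (i := i)
  have ha' := sp_ge (i := i)
  have hN := norm_tab i hi
  have hcl := closed_tab i hi
  obtain ⟨s, u, hs, hu, rfl⟩ := pj_split hi hg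
  clear hg
  generalize sp i = a at *
  have hb := opp_all ha
  have hUle : RG (uj a) ≤ U := RG_le_U hcl
  have hy : x (47 - a) ∈ V' := x_mem_RG (by omega) (negP_iff.2 (by omega))
  have hyl : x (47 - a) ∈ RG (lj a) := x_mem_RG (by omega) (by simp [lj])
  have hno : x a ∉ RG (uj a) := by
    rw [x_mem_RG_iff hcl ha]
    simp [uj]
  have hxU : x a ∈ U := x_mem_U ha' ha
  -- an element `x_a u` in `V'` is impossible
  have imp : ∀ u ∈ RG (uj a), x a * u ∉ V' := by
    intro u hu h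
    have h1 := eq_one_of (mul_mem hxU (hUle hu)) h
    apply hno
    rw [eq_inv_of_mul_eq_one_left h1]
    exact inv_mem hu
  rcases hs with rfl | rfl | rfl | rfl | rfl | rfl
  · left
    rw [one_mul] at hV ⊢
    exact eq_one_of (hUle hu) hV
  · exact absurd hV (imp u hu)
  · right
    have h1 : u ∈ V' := by
      have := mul_mem (inv_mem hy) hV
      rwa [← mul_assoc, inv_mul_cancel, one_mul] at this
    rw [eq_one_of (hUle hu) h1, mul_one]
  · exfalso
    have h2 := conj_mem hN hyl hu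
    apply imp _ h2
    have h3 := mul_mem hV (inv_mem hy)
    have e : x a * (x (47 - a) * u * (x (47 - a))⁻¹) = x a * x (47 - a) * u * (x (47 - a))⁻¹ := by group
    rw [e]
    exact h3
  · exfalso
    apply imp u hu
    have h3 := mul_mem (inv_mem hy) hV
    have e : (x (47 - a))⁻¹ * (x (47 - a) * x a * u) = x a * u := by group
    rwa [e] at h3
  · exfalso
    rw [hb] at hV
    have h2 := conj_mem hN hyl hu
    apply imp _ h2
    have h3 := mul_mem (mul_mem (inv_mem hy) hV) (inv_mem hy)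
    have e : x a * (x (47 - a) * u * (x (47 - a))⁻¹) =
        (x (47 - a))⁻¹ * (x (47 - a) * x a * x (47 - a) * u) * (x (47 - a))⁻¹ := by group
    rw [e]
    exact h3

/-! ### the images of the simple root elements -/

theorem U_le_pj (a : ℕ) : U ≤ RG (pj a) := by
  rw [U_eq]
  refine RG_mono fun r _ h => ?_
  have h24 : decide (24 ≤ r) = true := h
  unfold pj
  rw [h24, Bool.true_or]

theorem y_mem_pj (i : ℕ) : x (47 - sp i) ∈ RG (pj (sp i)) := by
  have := sp_lt' (i := i)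
  exact x_mem_RG (by omega) (by simp [pj])

theorem n_mem_pj {i : ℕ} (hi : i < 4) : n i ∈ RG (pj (sp i)) :=
  n_mem_RG hi (by simp [pj, sp_ge]) (by simp [pj])

theorem refl_sp : ∀ i < 4, refl i (sp i) = 47 - sp i := by decide

theorem sp_inj : ∀ i < 4, ∀ j < 4, sp i = sp j → i = j := by decide

theorem n_conj_sp {i : ℕ} (hi : i < 4) : n i * x (sp i) * (n i)⁻¹ = x (47 - sp i) := by
  rw [n_conj hi sp_lt', refl_sp i hi]

theorem eq_of_n_mem {i j : ℕ} (hi : i < 4) (hj : j < 4) (h : n j ∈ RG (pj (sp i))) : j = i := by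
  have h0 := sp_ge (i := j)
  have h0' := sp_lt' (i := j)
  have h1 : x (47 - sp j) ∈ RG (pj (sp i)) := by
    rw [← n_conj_sp hj]
    exact mul_mem (mul_mem h (U_le_pj _ (x_mem_U h0 h0'))) (inv_mem h)
  rcases pj_inf_V hi h1 (x_mem_RG (by omega) (negP_iff.2 (by omega))) with h2 | h2
  · exact absurd h2 (x_ne_one (by omega))
  · have h3 := x_inj (by omega) (by have := sp_lt' (i := i); omega) h2
    have h4 := sp_lt' (i := i)
    exact sp_inj j hj i hi (by omega)

/-- proper overgroups of `U` contain a minimal parabolic subgroup -/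
theorem exists_pj_le {H : Subgroup LL} (hU : U ≤ H) (hne : H ≠ U) : ∃ i < 4, RG (pj (sp i)) ≤ H := by
  by_contra hcon
  push Not at hcon
  apply hne
  rw [parabolic_eq hU]
  apply le_antisymm _ le_sup_left
  refine sup_le le_rfl ?_
  rw [Subgroup.closure_le]
  rintro _ ⟨i, hi, hn, rfl⟩
  exfalso
  apply hcon i hi
  refine RG_le fun r hr h => ?_
  unfold pj at h
  rw [Bool.or_eq_true, decide_eq_true_iff, beq_iff_eq] at h
  rcases h with h | rfl
  · exact hU (x_mem_U h hr)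
  · rw [← n_conj_sp hi]
    exact mul_mem (mul_mem hn (hU (x_mem_U sp_ge sp_lt'))) (inv_mem hn)

theorem y_not_mem_U (i : ℕ) : x (47 - sp i) ∉ U := by
  intro h
  have h1 := pos_of_mem_U (by omega) h
  have := sp_ge (i := i)
  omega

theorem img {α : MulAut LL} (hα : Fix α U) {i : ℕ} (hi : i < 4) :
    ∃ j < 4, ∀ g, g ∈ RG (pj (sp i)) ↔ α g ∈ RG (pj (sp j)) := by
  have hU : U ≤ (RG (pj (sp i))).comap (α⁻¹).toMonoidHom := fun g hg => by
    have h1 : α⁻¹ g ∈ U := by
      rw [← hα, MulAut.apply_inv_self]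
      exact hg
    exact U_le_pj _ h1
  have hne : (RG (pj (sp i))).comap (α⁻¹).toMonoidHom ≠ U := by
    intro h
    have h1 : α (x (47 - sp i)) ∈ (RG (pj (sp i))).comap (α⁻¹).toMonoidHom := by
      have h2 : α⁻¹ (α (x (47 - sp i))) ∈ RG (pj (sp i)) := by
        rw [MulAut.inv_apply_self]
        exact y_mem_pj i
      exact h2
    rw [h, hα] at h1
    exact y_not_mem_U i h1
  obtain ⟨j, hj, hle⟩ := exists_pj_le hU hne
  refine ⟨j, hj, ?_⟩
  -- the other inclusion
  have hU' : U ≤ (RG (pj (sp j))).comap α.toMonoidHom := fun g hg => U_le_pj _ ((hα g).2 hg)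
  have hne' : (RG (pj (sp j))).comap α.toMonoidHom ≠ U := by
    intro h
    have h1 : α⁻¹ (x (47 - sp j)) ∈ (RG (pj (sp j))).comap α.toMonoidHom := by
      have h2 : α (α⁻¹ (x (47 - sp j))) ∈ RG (pj (sp j)) := by
        rw [MulAut.apply_inv_self]
        exact y_mem_pj j
      exact h2
    rw [h, ← hα, MulAut.apply_inv_self] at h1
    exact y_not_mem_U j h1
  obtain ⟨k, hk, hle'⟩ := exists_pj_le hU' hne'
  have h1 : n k ∈ RG (pj (sp i)) := by
    have h2 : α (n k) ∈ RG (pj (sp j)) := hle' (n_mem_pj hk)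
    have h3 : α⁻¹ (α (n k)) ∈ RG (pj (sp i)) := hle h2
    rwa [MulAut.inv_apply_self] at h3
  have hki := eq_of_n_mem hi hk h1
  subst hki
  intro g
  constructor
  · exact fun hg => hle' hg
  · intro hg
    have h3 : α⁻¹ (α g) ∈ RG (pj (sp k)) := hle hg
    rwa [MulAut.inv_apply_self] at h3

theorem imgV {α : MulAut LL} (hα : Fix α U) (hV : Fix α V') {i : ℕ} (hi : i < 4) :
    ∃ j < 4, α (x (47 - sp i)) = x (47 - sp j) := by
  obtain ⟨j, hj, h⟩ := img hα hi
  have h0 := sp_ge (i := i)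
  have h0' := sp_lt' (i := i)
  refine ⟨j, hj, (pj_inf_V hj ((h _).1 (y_mem_pj i)) ((hV _).2 (x_mem_RG (by omega) (negP_iff.2 (by omega))))).resolve_left ?_⟩
  intro h1
  have h2 : x (47 - sp i) = 1 := α.injective (by rw [h1, map_one])
  exact x_ne_one (by omega) h2

theorem comm_tab : ∀ i < 4, ∀ j < 4, i ≠ j → cmg (sp i) (47 - sp j) = [] := by decide +kernel

theorem comm_opp {i j : ℕ} (hi : i < 4) (hj : j < 4) (hij : i ≠ j) :
    x (sp i) * x (47 - sp j) = x (47 - sp j) * x (sp i) := by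
  have h1 := sp_lt' (i := i)
  have h2 := sp_lt' (i := j)
  refine comm_one h1 (by omega) ?_ (comm_tab i hi j hj hij)
  intro h
  exact hij (sp_inj i hi j hj (by omega))

theorem not_comm_opp {i : ℕ} : x (sp i) * x (47 - sp i) ≠ x (47 - sp i) * x (sp i) := by
  have h1 := sp_lt' (i := i)
  have h2 := sp_ge (i := i)
  intro h
  have h3 := opp_all h1
  rw [h, mul_assoc, x_mul_self, mul_one, ← h, mul_assoc, x_mul_self, mul_one] at h3
  have := x_inj (by omega) h1 h3
  omega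

theorem both {α : MulAut LL} (hα : Fix α U) (hV : Fix α V') {i : ℕ} (hi : i < 4) :
    ∃ j < 4, α (x (sp i)) = x (sp j) ∧ α (x (47 - sp i)) = x (47 - sp j) := by
  have h0 := sp_ge (i := i)
  have h0' := sp_lt' (i := i)
  obtain ⟨j, hj, h1⟩ := imgV hα hV hi
  have hU2 : Fix (MulAut.conj w0⁻¹ * α * MulAut.conj w0) U := fix_of_le fun g hg => by
    show w0⁻¹ * α (w0 * g * w0⁻¹) * w0⁻¹⁻¹ ∈ U
    rw [inv_inv]
    exact w0_V ((hV _).2 (w0_U hg))
  have hV2 : Fix (MulAut.conj w0⁻¹ * α * MulAut.conj w0) V' := fix_of_le fun g hg => by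
    show w0⁻¹ * α (w0 * g * w0⁻¹) * w0⁻¹⁻¹ ∈ V'
    rw [inv_inv]
    exact w0_U' ((hα _).2 (w0_V' hg))
  obtain ⟨k, hk, h2⟩ := imgV hU2 hV2 hi
  have h2' : w0⁻¹ * α (w0 * x (47 - sp i) * w0⁻¹) * w0⁻¹⁻¹ = x (47 - sp k) := h2
  rw [w0_conj (by omega), show 47 - (47 - sp i) = sp i by omega, inv_inv] at h2'
  have h3 : α (x (sp i)) = x (sp k) := by
    have h4 := w0_conj (show 47 - sp k < 48 by omega)
    have h5 := sp_lt' (i := k)
    rw [show 47 - (47 - sp k) = sp k by omega, ← h2'] at h4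
    rw [← h4]
    group
  have hjk : k = j := by
    by_contra hne
    apply not_comm_opp (i := i)
    apply α.injective
    rw [map_mul, map_mul, h3, h1]
    exact comm_opp hk hj hne
  subst hjk
  exact ⟨k, hk, h3, h1⟩

/-- adjacency in the diagram -/
def adj (i j : ℕ) : Bool := i + 1 == j || j + 1 == i

theorem nadj_tab : ∀ i < 4, ∀ j < 4, i ≠ j → adj i j = false → cmg (sp i) (sp j) = [] := by decide +kernel

theorem comm_of_nadj {i j : ℕ} (hi : i < 4) (hj : j < 4) (h : adj i j = false) :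
    x (sp i) * x (sp j) = x (sp j) * x (sp i) := by
  by_cases hij : i = j
  · rw [hij]
  · have h1 := sp_ge (i := i)
    have h2 := sp_ge (i := j)
    exact comm_one sp_lt' sp_lt' (by omega) (nadj_tab i hi j hj hij h)

theorem wd_ne {r s : ℕ} (hr : r < 48) (hs : s < 48) (h1 : r ≠ s) (h2 : r + s ≠ 47) (h : wd (cmg r s) ≠ 1) :
    x r * x s ≠ x s * x r := by
  intro hc
  apply h
  have h3 := comm_all hr hs h1 h2
  rw [hc, mul_assoc] at h3
  have h4 := mul_left_cancel h3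
  calc wd (cmg r s) = wd (cmg r s) * x r * (x r)⁻¹ := by group
    _ = 1 := by rw [← h4]; group

theorem ncomm_of_adj : ∀ i < 4, ∀ j < 4, adj i j = true → x (sp i) * x (sp j) ≠ x (sp j) * x (sp i) := by
  have a1 : x 33 * x 27 ≠ x 27 * x 33 := by
    refine wd_ne (by omega) (by omega) (by omega) (by omega) ?_
    rw [show cmg 33 27 = [34] by decide +kernel, wd_one]
    exact x_ne_one (by omega)
  have a2 : x 27 * x 25 ≠ x 25 * x 27 := by
    refine wd_ne (by omega) (by omega) (by omega) (by omega) ?_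
    rw [show cmg 27 25 = [28, 30] by decide +kernel, wd_cons, wd_one]
    intro h
    have h1 : x 28 = x 30 := by rw [← x_inv 30]; exact eq_inv_of_mul_eq_one_left h
    have := x_inj (by omega) (by omega) h1
    omega
  have a3 : x 25 * x 24 ≠ x 24 * x 25 := by
    refine wd_ne (by omega) (by omega) (by omega) (by omega) ?_
    rw [show cmg 25 24 = [26] by decide +kernel, wd_one]
    exact x_ne_one (by omega)
  intro i hi j hj h
  have tab : ∀ i < 4, ∀ j < 4, adj i j = true → (i = 0 ∧ j = 1) ∨ (i = 1 ∧ j = 0) ∨ (i = 1 ∧ j = 2) ∨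
      (i = 2 ∧ j = 1) ∨ (i = 2 ∧ j = 3) ∨ (i = 3 ∧ j = 2) := by
    intro i hi j hj h
    unfold adj at h
    rw [Bool.or_eq_true, beq_iff_eq, beq_iff_eq] at h
    omega
  have s0 : sp 0 = 33 := rfl
  have s1 : sp 1 = 27 := rfl
  have s2 : sp 2 = 25 := rfl
  have s3 : sp 3 = 24 := rfl
  rcases tab i hi j hj h with ⟨rfl, rfl⟩ | ⟨rfl, rfl⟩ | ⟨rfl, rfl⟩ | ⟨rfl, rfl⟩ | ⟨rfl, rfl⟩ | ⟨rfl, rfl⟩
  · rw [s0, s1]; exact a1
  · rw [s0, s1]; exact a1.symm
  · rw [s1, s2]; exact a2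
  · rw [s1, s2]; exact a2.symm
  · rw [s2, s3]; exact a3
  · rw [s2, s3]; exact a3.symm

theorem path_tab' : ((List.range 4).all fun a => (List.range 4).all fun b => (List.range 4).all fun c =>
    (List.range 4).all fun d => !(adj a b && (adj b c && (adj c d && (!(a == c) && !(b == d))))) ||
      ((a == 0 && (b == 1 && (c == 2 && d == 3))) || (a == 3 && (b == 2 && (c == 1 && d == 0))))) = true := by
  decide +kernel

theorem path_tab (a : ℕ) (ha : a < 4) (b : ℕ) (hb : b < 4) (c : ℕ) (hc : c < 4) (d : ℕ) (hd : d < 4)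
    (h1 : adj a b = true) (h2 : adj b c = true) (h3 : adj c d = true)
    (h4 : a ≠ c) (h5 : b ≠ d) : (a = 0 ∧ b = 1 ∧ c = 2 ∧ d = 3) ∨ (a = 3 ∧ b = 2 ∧ c = 1 ∧ d = 0) := by
  have h := path_tab'
  simp only [List.all_eq_true, List.mem_range] at h
  have h6 := h a ha b hb c hc d hd
  simpa [h1, h2, h3, h4, h5] using h6

/-- the exceptional graph automorphism -/
noncomputable def gr : MulAut LL := exists_graph.choose

theorem gr_x {r : ℕ} (hr : r < 48) : gr (x r) = x (bar r) := exists_graph.choose_spec r hr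

theorem diag {α : MulAut LL} (hα : Fix α U) (hV : Fix α V') :
    (∀ i < 4, α (x (sp i)) = x (sp i) ∧ α (x (47 - sp i)) = x (47 - sp i)) ∨
      (∀ i < 4, α (x (sp i)) = x (bar (sp i)) ∧ α (x (47 - sp i)) = x (bar (47 - sp i))) := by
  obtain ⟨a, ha, ha1, ha2⟩ := both hα hV (i := 0) (by omega)
  obtain ⟨b, hb, hb1, hb2⟩ := both hα hV (i := 1) (by omega)
  obtain ⟨c, hc, hc1, hc2⟩ := both hα hV (i := 2) (by omega)
  obtain ⟨d, hd, hd1, hd2⟩ := both hα hV (i := 3) (by omega)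
  have hadj : ∀ i < 4, ∀ j < 4, adj i j = true → ∀ k < 4, ∀ l < 4, α (x (sp i)) = x (sp k) →
      α (x (sp j)) = x (sp l) → adj k l = true := by
    intro i hi j hj hij k hk l hl e1 e2
    by_contra hcon
    rw [Bool.not_eq_true] at hcon
    apply ncomm_of_adj i hi j hj hij
    apply α.injective
    rw [map_mul, map_mul, e1, e2]
    exact comm_of_nadj hk hl hcon
  have hne : ∀ i < 4, ∀ j < 4, i ≠ j → ∀ k < 4, ∀ l < 4, α (x (sp i)) = x (sp k) →
      α (x (sp j)) = x (sp l) → k ≠ l := by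
    intro i hi j hj hij k hk l hl e1 e2 hkl
    subst hkl
    exact hij (sp_inj i hi j hj (x_inj sp_lt' sp_lt' (α.injective (e1.trans e2.symm))))
  rcases path_tab a ha b hb c hc d hd (hadj 0 (by omega) 1 (by omega) (by decide) a ha b hb ha1 hb1)
    (hadj 1 (by omega) 2 (by omega) (by decide) b hb c hc hb1 hc1)
    (hadj 2 (by omega) 3 (by omega) (by decide) c hc d hd hc1 hd1)
    (hne 0 (by omega) 2 (by omega) (by omega) a ha c hc ha1 hc1)
    (hne 1 (by omega) 3 (by omega) (by omega) b hb d hd hb1 hd1) with ⟨rfl, rfl, rfl, rfl⟩ | ⟨rfl, rfl, rfl, rfl⟩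
  · left
    intro i hi
    interval_cases i
    · exact ⟨ha1, ha2⟩
    · exact ⟨hb1, hb2⟩
    · exact ⟨hc1, hc2⟩
    · exact ⟨hd1, hd2⟩
  · right
    intro i hi
    interval_cases i
    · exact ⟨ha1, ha2⟩
    · exact ⟨hb1, hb2⟩
    · exact ⟨hc1, hc2⟩
    · exact ⟨hd1, hd2⟩

/-- words carrying the simple roots to all roots -/
def wtab : List (ℕ × List ℕ) :=
  [(2, [3, 2, 1, 2, 3, 0, 1, 2]), (2, [2, 1, 2, 3, 0, 1, 2]), (2, [1, 2, 3, 0, 1, 2]), (0, [0, 1, 2, 3, 1, 2, 1, 0]),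
    (2, [2, 3, 0, 1, 2]), (2, [3, 0, 1, 2]), (2, [0, 1, 2]), (0, [1, 2, 3, 1, 2, 1, 0]), (0, [2, 3, 1, 2, 1, 0]),
    (0, [3, 1, 2, 1, 0]), (0, [1, 2, 1, 0]), (0, [3, 2, 1, 0]), (0, [2, 1, 0]), (0, [1, 0]), (0, [0]),
    (2, [2, 3, 1, 2]), (2, [3, 1, 2]), (2, [1, 2]), (1, [3, 2, 1]), (1, [2, 1]), (1, [1]), (2, [3, 2]), (2, [2]),
    (3, [3]), (3, []), (2, []), (2, [3]), (1, []), (1, [2]), (1, [3, 2]), (2, [1]), (2, [3, 1]), (2, [2, 3, 1]),
    (0, []), (0, [1]), (0, [2, 1]), (0, [3, 2, 1]), (0, [1, 2, 1]), (0, [3, 1, 2, 1]), (0, [2, 3, 1, 2, 1]),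
    (0, [1, 2, 3, 1, 2, 1]), (2, [0, 1]), (2, [3, 0, 1]), (2, [2, 3, 0, 1]), (0, [0, 1, 2, 3, 1, 2, 1]),
    (2, [1, 2, 3, 0, 1]), (2, [2, 1, 2, 3, 0, 1]), (2, [3, 2, 1, 2, 3, 0, 1])]

theorem wtab_ok : ((List.range 48).all fun r => match wtab.getD r (0, []) with
    | (i, w) => decide (i < 4) && w.all (fun j => decide (j < 4)) && (act w (sp i) == r)) = true := by decide +kernel

theorem exists_word {r : ℕ} (hr : r < 48) : ∃ i < 4, ∃ w : List ℕ, (∀ j ∈ w, j < 4) ∧
    x r = nw w * x (sp i) * (nw w)⁻¹ := by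
  have h := wtab_ok
  rw [List.all_eq_true] at h
  have h1 := h r (List.mem_range.2 hr)
  generalize wtab.getD r (0, []) = p at h1
  obtain ⟨i, w⟩ := p
  simp only [Bool.and_eq_true, decide_eq_true_eq, List.all_eq_true, beq_iff_eq] at h1
  refine ⟨i, h1.1.1, w, h1.1.2, ?_⟩
  rw [nw_conj h1.1.2 sp_lt', h1.2]

/-- two automorphisms which agree on the simple root elements and their opposites are equal -/
theorem eq_of_simple {α β : MulAut LL}
    (h : ∀ i < 4, α (x (sp i)) = β (x (sp i)) ∧ α (x (47 - sp i)) = β (x (47 - sp i))) : α = β := by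
  set H : Subgroup LL := (α.toMonoidHom).eqLocus β.toMonoidHom with hH
  have hx : ∀ i < 4, x (sp i) ∈ H := fun i hi => (h i hi).1
  have hy : ∀ i < 4, x (47 - sp i) ∈ H := fun i hi => (h i hi).2
  have hn : ∀ i < 4, n i ∈ H := by
    intro i hi
    rw [n_eq_wd, wd_cons, wd_cons, wd_one]
    exact mul_mem (hx i hi) (mul_mem (hy i hi) (hx i hi))
  have hnw : ∀ w : List ℕ, (∀ j ∈ w, j < 4) → nw w ∈ H := by
    intro w
    induction w with
    | nil => exact fun _ => one_mem _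
    | cons j w ih =>
      intro hw
      have e : nw (j :: w) = n j * nw w := by simp [nw]
      rw [e]
      exact mul_mem (hn j (hw j List.mem_cons_self)) (ih fun k hk => hw k (List.mem_cons_of_mem _ hk))
  have htop : H = ⊤ := by
    rw [eq_top_iff, ← closure_x, Subgroup.closure_le]
    rintro _ ⟨r, hr, rfl⟩
    obtain ⟨i, hi, w, hw, e⟩ := exists_word hr
    rw [e]
    exact mul_mem (mul_mem (hnw w hw) (hx i hi)) (inv_mem (hnw w hw))
  ext1 g
  have hg : g ∈ H := by rw [htop]; exact Subgroup.mem_top g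
  exact hg

/-- an automorphism is determined by the root elements -/
theorem eq_of_x {α β : MulAut LL} (h : ∀ r < 48, α (x r) = β (x r)) : α = β :=
  eq_of_simple fun i _ => ⟨h _ sp_lt', h _ (by have := sp_lt' (i := i); omega)⟩

/-- **The automorphisms of `F₄(2)`.** -/
theorem exists_aut (α : MulAut LL) : ∃ g : LL, α = MulAut.conj g ∨ α = MulAut.conj g * gr := by
  obtain ⟨g, hg⟩ := exists_fix_U α
  obtain ⟨u, -, hU, hV⟩ := exists_fix_V hg
  refine ⟨(u * g)⁻¹, ?_⟩
  have e : MulAut.conj (u * g)⁻¹ * (MulAut.conj u * (MulAut.conj g * α)) = α := by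
    rw [← mul_assoc (MulAut.conj u), ← map_mul, map_inv, inv_mul_cancel_left]
  rcases diag hU hV with h | h
  · left
    have h1 : MulAut.conj u * (MulAut.conj g * α) = 1 := eq_of_simple fun i hi => h i hi
    rw [h1, mul_one] at e
    exact e.symm
  · right
    have h1 : MulAut.conj u * (MulAut.conj g * α) = gr := eq_of_simple fun i hi => by
      have h2 := sp_lt' (i := i)
      rw [gr_x h2, gr_x (by omega)]
      exact h i hi
    rw [h1] at e
    exact e.symm

theorem gr_gr : gr * gr = 1 := eq_of_x fun r hr => by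
  show gr (gr (x r)) = x r
  rw [gr_x hr, gr_x (bar_lt hr), bar_bar hr]

end Cfsg.Agent.OddHalf.D9.FFour.AutLL
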