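import Cfsg.Agent.OddHalf.D9.FFour.Inv
import Cfsg.Agent.FourTwo.CentK
import Cfsg.Agent.FourTwo.Perf

/-!
# The class of `f 44 * z` in `K = 2.F₄(2)`

`bad`: with `e = f 44 * z` and `P = C(e) = C(f 44)`: `P = O²(P)`, `e ∈ [Z(O₂(P)), P]`, `z ∉ [Z(O₂(P)), P]`.
-/

set_option autoImplicit false

namespace Cfsg.Agent.OddHalf.D9.FFour.Bad

open Subgroup
open Cfsg.Agent.ChevalleyStructure.TwF4.Rel (refl)
open Cfsg.Agent.ChevalleyStructure.TwF4.Torus (all_of)
open Cfsg.Agent.ChevalleyStructure.F4TwU (posList mem_posList)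
open Cfsg.Agent.FourTwo.Base (LL x wd wd_cons wd_nil n n_eq_wd n_conj)
open Cfsg.Agent.FourTwo.Comm (cmg comm_one)
open Cfsg.Agent.FourTwo.CentAll (isShort)
open Cfsg.Agent.FourTwo.Par (RG x_mem_RG RG_le wd_mem_RG normB conj_mem)
open Cfsg.Agent.FourTwo.BN (U nf_unique')
open Cfsg.Agent.FourTwo.Cent (posP U_eq psP Ps cent_short)
open Cfsg.Agent.FourTwo.Perf (sylU coe_sylU)
open Cfsg.Agent.FourTwo.Classes (ec coe_ec coe_wd_eq_wel)
open Cfsg.Agent.FourTwo.UCode (lets mem_lets wel_lets)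
open Cfsg.Agent.FourTwo.CentW (GG Y)
open Cfsg.Agent.OddHalf.D9.FFour.Def Cfsg.Agent.OddHalf.D9.FFour.Sys Cfsg.Agent.OddHalf.D9.FFour.Words
open Cfsg.Agent.OddHalf.D9.FFour.Inv

/-! ### facts in `LL` -/

/-- the roots of `Q` -/
def qP (r : ℕ) : Bool := decide (33 ≤ r)

/-- the roots of `W` -/
def wP (r : ℕ) : Bool := decide (41 ≤ r)

theorem normB_q : normB psP qP = true := by decide +kernel

theorem U_le_Ps : U ≤ Ps := by
  rw [U_eq]
  refine RG_le fun r hr h => x_mem_RG hr ?_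
  unfold posP at h
  unfold psP
  rw [decide_eq_true_eq] at h ⊢
  omega

theorem qP_le_U : RG qP ≤ U := by
  rw [U_eq]
  refine RG_le fun r hr h => x_mem_RG hr ?_
  unfold qP at h
  unfold posP
  rw [decide_eq_true_eq] at h ⊢
  omega

/-- a normal 2-subgroup of `Ps` lies in `U` -/
theorem le_U {A : Subgroup LL} (hA : IsPGroup 2 ↥A) (hle : A ≤ Ps) (hn : ∀ g ∈ Ps, ∀ a ∈ A, g * a * g⁻¹ ∈ A) :
    A ≤ U := by
  have : Fact (Nat.Prime 2) := ⟨Nat.prime_two⟩
  have hU : (sylU : Subgroup LL) ≤ Ps := by rw [coe_sylU]; exact U_le_Ps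
  let V : Sylow 2 ↥Ps := sylU.subtype hU
  have hA' : IsPGroup 2 ↥(A.subgroupOf Ps) :=
    hA.comap_of_injective Ps.subtype Ps.subtype_injective
  obtain ⟨T, hT⟩ := hA'.exists_le_sylow
  obtain ⟨g, hg⟩ := MulAction.exists_smul_eq ↥Ps T V
  intro a ha
  have h1 : (g⁻¹ : LL) * a * (g⁻¹ : LL)⁻¹ ∈ A := hn _ (inv_mem g.2) a ha
  have h2 : (⟨(g⁻¹ : LL) * a * (g⁻¹ : LL)⁻¹, hle h1⟩ : ↥Ps) ∈ (T : Subgroup ↥Ps) := hT h1
  have h3 : g * (⟨(g⁻¹ : LL) * a * (g⁻¹ : LL)⁻¹, hle h1⟩ : ↥Ps) * g⁻¹ ∈ (V : Subgroup ↥Ps) := by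
    rw [← hg, Sylow.coe_subgroup_smul]
    exact ⟨_, h2, by simp [MulAut.conj_apply]⟩
  have h4 : g * (⟨(g⁻¹ : LL) * a * (g⁻¹ : LL)⁻¹, hle h1⟩ : ↥Ps) * g⁻¹ = ⟨a, hle ha⟩ := by
    apply Subtype.ext
    show (g : LL) * ((g : LL)⁻¹ * a * (g : LL)⁻¹⁻¹) * (g : LL)⁻¹ = a
    group
  rw [h4] at h3
  exact h3

theorem z47_tab : ((List.range 48).all fun r => decide (r < 24) || cmg r 47 == []) = true := by decide +kernel

/-- `x 47` is central in `U` -/
theorem comm47 {u : LL} (hu : u ∈ U) : u * x 47 = x 47 * u := by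
  rw [← mem_centralizer_singleton_iff]
  revert u
  show U ≤ centralizer {x 47}
  rw [U_eq]
  refine RG_le fun r hr h => ?_
  unfold posP at h
  rw [decide_eq_true_eq] at h
  have h1 := all_of z47_tab hr
  rw [Bool.or_eq_true, decide_eq_true_eq, beq_iff_eq] at h1
  rw [mem_centralizer_singleton_iff]
  exact comm_one hr (by norm_num) (by omega) (h1.resolve_left (by omega))

theorem coe_comm {g : LL} {r : ℕ} (h : g * x r = x r * g) :
    (g : GG) * Y r = Y r * (g : GG) := by
  have h1 := congrArg (Subtype.val) h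
  exact h1

/-- `C_L(x₃₃, …, x₄₀) ≤ W` -/
theorem mem_W {g : LL} (h : ∀ k, k < 8 → g * x (33 + k) = x (33 + k) * g) : g ∈ RG wP := by
  obtain ⟨a, -, e⟩ := Cfsg.Agent.FourTwo.CentC.centC g.2 fun k hk => coe_comm (h k hk)
  have e1 : g = ec (a * 2 ^ 17) := Subtype.ext e
  have e2 : ec (a * 2 ^ 17) = wd ((lets (a * 2 ^ 17)).map fun j => 24 + j) := by
    apply Subtype.ext
    rw [coe_wd_eq_wel, coe_ec, wel_lets]
  rw [e1, e2]
  refine wd_mem_RG fun r hr => ?_
  obtain ⟨c, hc, rfl⟩ := List.mem_map.1 hr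
  rw [mem_lets, Nat.testBit_mul_two_pow] at hc
  simp only [Bool.and_eq_true, decide_eq_true_eq] at hc
  unfold wP
  rw [decide_eq_true_eq]
  omega

section

variable {K : Type*} [Group K] (S : Sys K)

/-- `P = C(f 44)` -/
def P : Subgroup K := centralizer {S.f 44}

theorem mem_P {k : K} : k ∈ P S ↔ k * S.f 44 = S.f 44 * k := mem_centralizer_singleton_iff

theorem cent_eq : centralizer {S.f 44 * S.z} = P S := by
  ext k
  rw [mem_centralizer_singleton_iff, mem_P, ← mul_assoc, mul_assoc (S.f 44) S.z k, ← S.zc k, ← mul_assoc]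
  exact mul_left_inj _

theorem π_mem {k : K} : k ∈ P S ↔ S.π k ∈ Ps := by
  rw [mem_P, ← cent_short, mem_centralizer_singleton_iff]
  constructor
  · intro h
    have h1 := congrArg S.π h
    rwa [map_mul, map_mul, S.fx 44 (by norm_num)] at h1
  · exact fun h => S.fc (by norm_num) h

theorem f_mem {r : ℕ} (h1 : 15 ≤ r) (h2 : r < 48) : S.f r ∈ P S := by
  rw [π_mem, S.fx r h2]
  exact x_mem_RG h2 (by unfold psP; rw [decide_eq_true_eq]; exact h1)

theorem z_mem : S.z ∈ P S := (mem_P S).2 (S.zc _).symm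

/-- the generators of `P` -/
def PG : Subgroup K := closure {y | ∃ r, 15 ≤ r ∧ r < 48 ∧ y = S.f r}

theorem exists_PG {k : K} (hk : k ∈ P S) : ∃ k' ∈ PG S, k = k' ∨ k = k' * S.z := by
  rw [π_mem] at hk
  have h : Ps ≤ (PG S).map S.π := by
    refine RG_le fun r hr hp => ?_
    unfold psP at hp
    rw [decide_eq_true_eq] at hp
    exact ⟨S.f r, subset_closure ⟨r, hp, hr, rfl⟩, S.fx r hr⟩
  obtain ⟨k', hk', e⟩ := h hk
  exact ⟨k', hk', S.eq_or e.symm⟩

/-- subgroups normalised by `P` -/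
theorem norm {A : Subgroup K} (hA : ∀ r, 15 ≤ r → r < 48 → ∀ a ∈ A, S.f r * a * (S.f r)⁻¹ ∈ A) {k a : K}
    (hk : k ∈ P S) (ha : a ∈ A) : k * a * k⁻¹ ∈ A := by
  have key : ∀ k' ∈ PG S, (∀ a ∈ A, k' * a * k'⁻¹ ∈ A) ∧ (∀ a ∈ A, k'⁻¹ * a * k' ∈ A) := by
    intro k' hk'
    unfold PG at hk'
    induction hk' using closure_induction with
    | mem y hy =>
      obtain ⟨r, h1, h2, rfl⟩ := hy
      refine ⟨hA r h1 h2, fun a ha => ?_⟩
      have h3 := hA r h1 h2 a ha
      have h4 := S.f_inv h2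
      have h5 : (S.f r)⁻¹ * a * S.f r = S.f r * a * (S.f r)⁻¹ := by rw [h4]
      rwa [h5]
    | one => simp
    | mul y y' _ _ h h' =>
      refine ⟨fun a ha => ?_, fun a ha => ?_⟩
      · have e : y * y' * a * (y * y')⁻¹ = y * (y' * a * y'⁻¹) * y⁻¹ := by group
        rw [e]
        exact h.1 _ (h'.1 a ha)
      · have e : (y * y')⁻¹ * a * (y * y') = y'⁻¹ * (y⁻¹ * a * y) * y' := by group
        rw [e]
        exact h'.2 _ (h.2 a ha)
    | inv y _ h =>
      refine ⟨fun a ha => ?_, fun a ha => ?_⟩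
      · have := h.2 a ha
        rwa [inv_inv]
      · have := h.1 a ha
        rwa [inv_inv]
  obtain ⟨k', hk', rfl | rfl⟩ := exists_PG S hk
  · exact (key k hk').1 a ha
  · have e : k' * S.z * a * (k' * S.z)⁻¹ = k' * a * k'⁻¹ := by
      rw [mul_inv_rev, mul_assoc k', ← S.zc a]
      group
    rw [e]
    exact (key k' hk').1 a ha

/-! ### `P = O²(P)` -/

theorem o_tab : ((List.range 48).all fun r => decide (r < 15) || o1 [44] r || oz [44] r) = true := by decide +kernel

theorem o_z : (o1 [44] 40 && o1 [44] 33) = true := by decide +kernel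

theorem w44 : chk 60 [40, 33, 40, 33] [44] false = true := by decide +kernel

theorem oz44 : oz [44] 44 = true := by decide +kernel

theorem P_eq' : centralizer {fw S.f [44] * sg S false} = P S := by
  rw [fw_one, sg_false, mul_one]
  rfl

theorem z_mem_O2 : S.z ∈ O2 (P S) := by
  have h0 := o_z
  rw [Bool.and_eq_true] at h0
  have h1 := o1_spec S (by decide) h0.1 false
  have h2 := o1_spec S (by decide) h0.2 false
  have h3 := oz_spec S (by decide) oz44 false
  rw [P_eq'] at h1 h2 h3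
  have h4 := word_eq S w44
  rw [fw_one, sg_false, mul_one] at h4
  have h5 : S.f 44 ∈ O2 (P S) := by
    rw [← h4]
    simp only [fw_cons, fw_nil, mul_one]
    exact mul_mem h1 (mul_mem h2 (mul_mem h1 h2))
  have h6 := mul_mem (inv_mem h5) h3
  rwa [inv_mul_cancel_left] at h6

theorem P_le : P S ≤ O2 (P S) := by
  have h1 : PG S ≤ O2 (P S) := by
    unfold PG
    rw [closure_le]
    rintro _ ⟨r, h1, h2, rfl⟩
    have h3 := all_of o_tab h2
    rw [Bool.or_eq_true, Bool.or_eq_true, decide_eq_true_eq] at h3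
    rcases h3 with (h3 | h3) | h3
    · omega
    · have h4 := o1_spec S (by decide) h3 false
      rwa [P_eq'] at h4
    · have h4 := oz_spec S (by decide) h3 false
      rw [P_eq'] at h4
      have h5 := mul_mem h4 (inv_mem (z_mem_O2 S))
      rwa [mul_inv_cancel_right] at h5
  intro k hk
  obtain ⟨k', hk', rfl | rfl⟩ := exists_PG S hk
  · exact h1 hk'
  · exact mul_mem (h1 hk') (z_mem_O2 S)

/-! ### `O₂(P)` -/

theorem isPGroup_of_U {A : Subgroup K} (hA : ∀ a ∈ A, S.π a ∈ U) : IsPGroup 2 ↥A := by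
  have : Fact (Nat.Prime 2) := ⟨Nat.prime_two⟩
  intro a
  have hU : IsPGroup 2 ↥U := by
    have := sylU.2
    exact this
  obtain ⟨m, hm⟩ := hU ⟨S.π a, hA a a.2⟩
  have h1 : S.π (a : K) ^ 2 ^ m = 1 := congrArg (fun t : ↥U => (t : LL)) hm
  rw [← map_pow] at h1
  refine ⟨m + 1, Subtype.ext ?_⟩
  show (a : K) ^ 2 ^ (m + 1) = 1
  rw [pow_succ, pow_mul]
  rcases (S.ker _).1 h1 with h2 | h2
  · rw [h2, one_pow]
  · rw [h2, pow_two, S.zz]

theorem In2_of {y : K} (hy : S.π y ∈ RG qP) : In2 (P S) y := by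
  have h0 : y ∈ P S := by
    rw [π_mem]
    exact U_le_Ps (qP_le_U hy)
  refine ⟨h0, isPGroup_of_U S fun a ha => ?_⟩
  have h1 : closure {b : K | ∃ p ∈ P S, b = p * y * p⁻¹} ≤ (RG qP).comap S.π := by
    rw [closure_le]
    rintro _ ⟨p, hp, rfl⟩
    show S.π (p * y * p⁻¹) ∈ RG qP
    rw [map_mul, map_mul, map_inv]
    exact conj_mem normB_q ((π_mem S).1 hp) hy
  exact qP_le_U (h1 ha)

theorem In2_f {r : ℕ} (h1 : 33 ≤ r) (h2 : r < 48) : In2 (P S) (S.f r) :=
  In2_of S (by rw [S.fx r h2]; exact x_mem_RG h2 (by unfold qP; rw [decide_eq_true_eq]; exact h1))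

theorem In2_U {y : K} (hy : In2 (P S) y) : S.π y ∈ U := by
  set Y := closure {b : K | ∃ p ∈ P S, b = p * y * p⁻¹} with hY
  have h1 : Y ≤ P S := by
    rw [hY, closure_le]
    rintro _ ⟨p, hp, rfl⟩
    exact mul_mem (mul_mem hp hy.1) (inv_mem hp)
  have hn : ∀ p ∈ P S, ∀ a ∈ Y, p * a * p⁻¹ ∈ Y := by
    intro p hp a ha
    have h2 : Y ≤ Y.comap (MulAut.conj p).toMonoidHom := by
      nth_rw 1 [hY]
      rw [closure_le]
      rintro _ ⟨q, hq, rfl⟩
      show p * (q * y * q⁻¹) * p⁻¹ ∈ Y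
      refine subset_closure ⟨p * q, mul_mem hp hq, ?_⟩
      group
    exact h2 ha
  have h3 : IsPGroup 2 ↥(Y.map S.π) := hy.2.map S.π
  have h4 : Y.map S.π ≤ U := by
    refine le_U h3 ?_ ?_
    · rintro _ ⟨a, ha, rfl⟩
      exact (π_mem S).1 (h1 ha)
    · rintro g hg _ ⟨a, ha, rfl⟩
      obtain ⟨p, rfl⟩ := S.surj g
      refine ⟨p * a * p⁻¹, hn p ((π_mem S).2 hg) a ha, ?_⟩
      rw [map_mul, map_mul, map_inv]
  refine h4 ⟨y, subset_closure ⟨1, one_mem _, ?_⟩, rfl⟩
  group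

theorem In2_conj {y p : K} (hy : In2 (P S) y) (hp : p ∈ P S) : In2 (P S) (p * y * p⁻¹) := by
  refine ⟨mul_mem (mul_mem hp hy.1) (inv_mem hp), ?_⟩
  have e : {b : K | ∃ q ∈ P S, b = q * (p * y * p⁻¹) * q⁻¹} = {b : K | ∃ q ∈ P S, b = q * y * q⁻¹} := by
    ext b
    constructor
    · rintro ⟨q, hq, rfl⟩
      exact ⟨q * p, mul_mem hq hp, by group⟩
    · rintro ⟨q, hq, rfl⟩
      exact ⟨q * p⁻¹, mul_mem hq (inv_mem hp), by group⟩
  rw [e]
  exact hy.2

/-- `f r` commutes with `O₂(P)` -/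
def Com (r : ℕ) : Prop := ∀ y, In2 (P S) y → y * S.f r = S.f r * y

theorem com47 : Com S 47 := fun y hy => S.fc (by norm_num) (comm47 (In2_U S hy))

theorem com_conj {r s : ℕ} {p : K} (hp : p ∈ P S) (h : p * S.f r * p⁻¹ = S.f s) (hr : Com S r) : Com S s := by
  intro y hy
  have h1 := hr (p⁻¹ * y * p⁻¹⁻¹) (In2_conj S hy (inv_mem hp))
  rw [← h]
  calc y * (p * S.f r * p⁻¹) = p * ((p⁻¹ * y * p⁻¹⁻¹) * S.f r) * p⁻¹ := by group
    _ = p * (S.f r * (p⁻¹ * y * p⁻¹⁻¹)) * p⁻¹ := by rw [h1]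
    _ = _ := by group

theorem com_step {i r s : ℕ} (hi : i < 4) (h1 : 15 ≤ Cfsg.Agent.ChevalleyStructure.TwF4.Rel.sp i)
    (h2 : 15 ≤ 47 - Cfsg.Agent.ChevalleyStructure.TwF4.Rel.sp i)
    (h3 : Cfsg.Agent.ChevalleyStructure.TwF4.Rel.sp i < 48) (hr : r < 48) (hs : s < 48)
    (hrs : refl i r = s) (hl : isShort r = isShort s) (h : Com S r) : Com S s := by
  set a := Cfsg.Agent.ChevalleyStructure.TwF4.Rel.sp i with ha
  refine com_conj S (p := S.f a * S.f (47 - a) * S.f a) (mul_mem (mul_mem (f_mem S h1 h3) (f_mem S h2 (by omega)))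
    (f_mem S h1 h3)) (S.conj hr hs hl ?_) h
  have e : S.π (S.f a * S.f (47 - a) * S.f a) = n i := by
    rw [map_mul, map_mul, S.fx a h3, S.fx _ (by omega), n_eq_wd, wd_cons, wd_cons, wd_cons, wd_nil, mul_one, mul_assoc]
  rw [e, n_conj hi hr, hrs]

theorem com46 : Com S 46 := com_step S (i := 3) (by norm_num) (by decide) (by decide) (by decide) (by norm_num)
  (by norm_num) (by decide) (by decide) (com47 S)

theorem com45 : Com S 45 := com_step S (i := 2) (by norm_num) (by decide) (by decide) (by decide) (by norm_num)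
  (by norm_num) (by decide) (by decide) (com46 S)

theorem com43 : Com S 43 := com_step S (i := 1) (by norm_num) (by decide) (by decide) (by decide) (by norm_num)
  (by norm_num) (by decide) (by decide) (com45 S)

theorem com42 : Com S 42 := com_step S (i := 2) (by norm_num) (by decide) (by decide) (by decide) (by norm_num)
  (by norm_num) (by decide) (by decide) (com43 S)

theorem com41 : Com S 41 := com_step S (i := 3) (by norm_num) (by decide) (by decide) (by decide) (by norm_num)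
  (by norm_num) (by decide) (by decide) (com42 S)

theorem Wz_of {r : ℕ} (h1 : 33 ≤ r) (h2 : r < 48) (h : Com S r) : Wz (P S) (S.f r) :=
  ⟨In2_f S h1 h2, fun y hy => (h y hy).symm⟩

/-! ### `e ∈ Phi` -/

theorem w41 : chk 60 [41, 29, 41, 29] [44, 47] true = true := by decide +kernel

theorem w46 : chk 60 [46, 24, 46, 24] [47] false = true := by decide +kernel

theorem comm_mem {w p : K} (hw : Wz (P S) w) (hp : p ∈ P S) : w * p * w⁻¹ * p⁻¹ ∈ Phi (P S) :=
  subset_closure ⟨w, p, hw, hp, rfl⟩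

theorem e_mem : S.f 44 * S.z ∈ Phi (P S) := by
  have h1 := comm_mem S (Wz_of S (by norm_num) (by norm_num) (com41 S)) (f_mem S (r := 29) (by norm_num) (by norm_num))
  have h2 := comm_mem S (Wz_of S (by norm_num) (by norm_num) (com46 S)) (f_mem S (r := 24) (by norm_num) (by norm_num))
  rw [S.f_inv (by norm_num), S.f_inv (by norm_num)] at h1 h2
  have e1 := word_eq S w41
  have e2 := word_eq S w46
  simp only [fw_cons, fw_nil, mul_one, sg_true, sg_false] at e1 e2
  have e1' : S.f 41 * S.f 29 * S.f 41 * S.f 29 = S.f 44 * S.f 47 * S.z := by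
    rw [← e1]
    simp only [mul_assoc]
  have e2' : S.f 46 * S.f 24 * S.f 46 * S.f 24 = S.f 47 := by
    rw [← e2]
    simp only [mul_assoc]
  rw [e1'] at h1
  rw [e2'] at h2
  have h3 := mul_mem h1 (inv_mem h2)
  have e3 : S.f 44 * S.f 47 * S.z * (S.f 47)⁻¹ = S.f 44 * S.z := by
    rw [mul_assoc, ← S.zc, ← mul_assoc, mul_inv_cancel_right]
  rwa [e3] at h3

/-! ### `z ∉ Phi` -/

/-- generators of the complement of `z` -/
def g (i : ℕ) : K := if i = 44 then S.f 44 * S.z else S.f i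

theorem π_g {i : ℕ} (hi : i < 48) : S.π (g S i) = x i := by
  unfold g
  split_ifs with h
  · rw [map_mul, S.π_z, mul_one, S.fx 44 (by norm_num), h]
  · exact S.fx i hi

theorem g_sq {i : ℕ} (hi : i < 48) : g S i * g S i = 1 := by
  unfold g
  split_ifs with h
  · calc S.f 44 * S.z * (S.f 44 * S.z) = S.f 44 * (S.z * S.f 44) * S.z := by simp only [mul_assoc]
      _ = S.f 44 * (S.f 44 * S.z) * S.z := by rw [S.zc (S.f 44)]
      _ = (S.f 44 * S.f 44) * (S.z * S.z) := by simp only [mul_assoc]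
      _ = 1 := by rw [S.ff 44 (by norm_num), S.zz, mul_one]
  · exact S.ff i hi

theorem cab_tab : ((List.range 48).all fun i => (List.range 48).all fun j => decide (i < 41) || decide (j < 41) ||
    cmg i j == []) = true := by decide +kernel

theorem g_comm {i j : ℕ} (h1 : 41 ≤ i) (h2 : i < 48) (h3 : 41 ≤ j) (h4 : j < 48) : g S i * g S j = g S j * g S i := by
  have key : S.f i * S.f j = S.f j * S.f i := by
    have h := all_of (all_of cab_tab h2) h4
    rw [Bool.or_eq_true, Bool.or_eq_true, decide_eq_true_eq, decide_eq_true_eq, beq_iff_eq] at h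
    refine comm0 S h2 h4 (by omega) ?_
    rcases h with (h | h) | h
    · omega
    · omega
    · exact h
  have hz : ∀ k : K, Commute k S.z := S.zcom
  have kc : Commute (S.f i) (S.f j) := key
  unfold g
  split_ifs with ha hb hb
  · rfl
  · subst ha
    exact kc.mul_left (hz _).symm
  · subst hb
    exact kc.mul_right (hz _)
  · exact kc

/-- the complement -/
def W0 : Subgroup K := closure {y | ∃ i, 41 ≤ i ∧ i < 48 ∧ y = g S i}

theorem g_mem {i : ℕ} (h1 : 41 ≤ i) (h2 : i < 48) : g S i ∈ W0 S := subset_closure ⟨i, h1, h2, rfl⟩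

theorem f_mem_W0 {i : ℕ} (h1 : 41 ≤ i) (h2 : i < 48) (h3 : i ≠ 44) : S.f i ∈ W0 S := by
  have h := g_mem S h1 h2
  unfold g at h
  rwa [if_neg h3] at h

/-- admissible commutators -/
def okc : List ℕ → Bool
  | [] => true
  | [t] => decide (41 ≤ t) && decide (t < 48) && t != 44
  | [t, u] => (t == 44 && decide (41 ≤ u) && decide (u < 48) && u != 44) ||
      (u == 44 && decide (41 ≤ t) && decide (t < 48) && t != 44)
  | _ => false

theorem okc_tab : ((List.range 48).all fun r => (List.range 48).all fun i => decide (r < 15) || decide (i < 41) ||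
    i == 44 || okc (cmg r i)) = true := by decide +kernel

theorem okc_mem {l : List ℕ} (h : okc l = true) : fw S.f l * sg S (l.length == 2) ∈ W0 S := by
  match l, h with
  | [], _ =>
    have : fw S.f [] * sg S (([] : List ℕ).length == 2) = 1 := by simp [fw, sg]
    rw [this]
    exact one_mem _
  | [t], h =>
    have : fw S.f [t] * sg S (([t] : List ℕ).length == 2) = S.f t := by simp [fw, sg]
    rw [this]
    unfold okc at h
    rw [Bool.and_eq_true, Bool.and_eq_true, decide_eq_true_eq, decide_eq_true_eq, bne_iff_ne] at h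
    exact f_mem_W0 S h.1.1 h.1.2 h.2
  | [t, u], h =>
    have : fw S.f [t, u] * sg S (([t, u] : List ℕ).length == 2) = S.f t * S.f u * S.z := by simp [fw, sg]
    rw [this]
    have h44 : S.f 44 * S.z ∈ W0 S := g_mem S (i := 44) (by norm_num) (by norm_num)
    unfold okc at h
    simp only [Bool.and_eq_true, Bool.or_eq_true, decide_eq_true_eq, bne_iff_ne, beq_iff_eq] at h
    rcases h with ⟨⟨⟨rfl, h1⟩, h2⟩, h3⟩ | ⟨⟨⟨rfl, h1⟩, h2⟩, h3⟩
    · have e : S.f 44 * S.f u * S.z = (S.f 44 * S.z) * S.f u := by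
        rw [mul_assoc, S.zc, ← mul_assoc]
      rw [e]
      exact mul_mem h44 (f_mem_W0 S h1 h2 h3)
    · rw [mul_assoc]
      exact mul_mem (f_mem_W0 S h1 h2 h3) h44

theorem W0_norm {r : ℕ} (h1 : 15 ≤ r) (h2 : r < 48) {a : K} (ha : a ∈ W0 S) : S.f r * a * (S.f r)⁻¹ ∈ W0 S := by
  have h : W0 S ≤ (W0 S).comap (MulAut.conj (S.f r)).toMonoidHom := by
    nth_rw 1 [W0]
    rw [closure_le]
    rintro _ ⟨i, h3, h4, rfl⟩
    show S.f r * g S i * (S.f r)⁻¹ ∈ W0 S
    by_cases h5 : i = 44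
    · subst h5
      have h6 : S.f r * g S 44 = g S 44 * S.f r := by
        have h7 : Commute (S.f r) (S.f 44) := (mem_P S).1 (f_mem S h1 h2)
        have h8 : Commute (S.f r) (S.f 44 * S.z) := h7.mul_right (S.zcom _)
        have h9 : g S 44 = S.f 44 * S.z := if_pos rfl
        rw [h9]
        exact h8
      rw [h6, mul_inv_cancel_right]
      exact g_mem S (by norm_num) (by norm_num)
    · have h6 : g S i = S.f i := if_neg h5
      rw [h6]
      by_cases h7 : r = i
      · subst h7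
        rw [mul_inv_cancel_right]
        exact f_mem_W0 S h3 h4 h5
      · have h8 := cm_all S h2 h4 h7 (by omega)
        rw [h8, mul_inv_cancel_right]
        refine mul_mem (f_mem_W0 S h3 h4 h5) (okc_mem S ?_)
        have h9 := all_of (all_of okc_tab h2) h4
        simp only [Bool.or_eq_true, decide_eq_true_eq, beq_iff_eq] at h9
        rcases h9 with ((h9 | h9) | h9) | h9
        · omega
        · omega
        · exact absurd h9 h5
        · exact h9
  exact h ha

theorem P_norm_W0 {k a : K} (hk : k ∈ P S) (ha : a ∈ W0 S) : k * a * k⁻¹ ∈ W0 S :=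
  norm S (fun _ h1 h2 _ ha => W0_norm S h1 h2 ha) hk ha

/-- normal form in an elementary abelian group generated by commuting involutions -/
theorem nf_ab {g : ℕ → K} : ∀ {L : List ℕ}, (∀ i ∈ L, ∀ j ∈ L, g i * g j = g j * g i) → (∀ i ∈ L, g i * g i = 1) →
    ∀ i ∈ L, ∀ T : List ℕ, T.Sublist L → ∃ T' : List ℕ, T'.Sublist L ∧ g i * (T.map g).prod = (T'.map g).prod
  | [], _, _, i, hi, _, _ => by simp at hi
  | a :: L, hc, h2, i, hi, T, hT => by
    have hc' : ∀ i ∈ L, ∀ j ∈ L, g i * g j = g j * g i := fun i hi j hj =>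
      hc i (List.mem_cons_of_mem _ hi) j (List.mem_cons_of_mem _ hj)
    have h2' : ∀ i ∈ L, g i * g i = 1 := fun i hi => h2 i (List.mem_cons_of_mem _ hi)
    rcases List.mem_cons.1 hi with rfl | hi'
    · cases hT with
      | cons _ h => exact ⟨i :: T, h.cons_cons i, by simp⟩
      | cons_cons _ h =>
        rename_i T0
        refine ⟨T0, h.cons _, ?_⟩
        rw [List.map_cons, List.prod_cons, ← mul_assoc, h2 i List.mem_cons_self, one_mul]
    · cases hT with
      | cons _ h =>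
        obtain ⟨T', hT', e⟩ := nf_ab hc' h2' i hi' T h
        exact ⟨T', hT'.cons _, e⟩
      | cons_cons _ h =>
        rename_i T0
        obtain ⟨T', hT', e⟩ := nf_ab hc' h2' i hi' T0 h
        refine ⟨a :: T', hT'.cons_cons a, ?_⟩
        rw [List.map_cons, List.prod_cons, List.map_cons, List.prod_cons, ← e, ← mul_assoc,
          hc i hi a List.mem_cons_self, mul_assoc]

theorem W0_nf {k : K} (hk : k ∈ W0 S) : ∃ T : List ℕ, T.Sublist [41, 42, 43, 44, 45, 46, 47] ∧
    k = (T.map (g S)).prod := by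
  have hL : ∀ i, i ∈ ([41, 42, 43, 44, 45, 46, 47] : List ℕ) ↔ 41 ≤ i ∧ i < 48 := by
    intro i
    simp only [List.mem_cons, List.not_mem_nil, or_false]
    omega
  have key : ∀ i, 41 ≤ i → i < 48 → ∀ T : List ℕ, T.Sublist [41, 42, 43, 44, 45, 46, 47] →
      ∃ T' : List ℕ, T'.Sublist [41, 42, 43, 44, 45, 46, 47] ∧ g S i * (T.map (g S)).prod = (T'.map (g S)).prod :=
    fun i h1 h2 T hT => nf_ab (fun i hi j hj => g_comm S ((hL i).1 hi).1 ((hL i).1 hi).2 ((hL j).1 hj).1
      ((hL j).1 hj).2) (fun i hi => g_sq S ((hL i).1 hi).2) i ((hL i).2 ⟨h1, h2⟩) T hT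
  unfold W0 at hk
  induction hk using closure_induction_left with
  | one => exact ⟨[], by simp, by simp⟩
  | mul_left y hy k _ ih =>
    obtain ⟨i, h1, h2, rfl⟩ := hy
    obtain ⟨T, hT, rfl⟩ := ih
    obtain ⟨T', hT', e⟩ := key i h1 h2 T hT
    exact ⟨T', hT', e⟩
  | inv_mul_cancel y hy k _ ih =>
    obtain ⟨i, h1, h2, rfl⟩ := hy
    obtain ⟨T, hT, rfl⟩ := ih
    obtain ⟨T', hT', e⟩ := key i h1 h2 T hT
    refine ⟨T', hT', ?_⟩
    rw [← e]
    congr 1
    rw [inv_eq_iff_mul_eq_one, g_sq S h2]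

theorem sub_tab : (([41, 42, 43, 44, 45, 46, 47] : List ℕ).sublists.all fun T =>
    decide (T = (posList 24).filter fun r => T.contains r)) = true := by decide +kernel

theorem z_not_mem_W0 : S.z ∉ W0 S := by
  intro hz
  obtain ⟨T, hT, e⟩ := W0_nf S hz
  have hlt : ∀ r ∈ T, r < 48 := by
    intro r hr
    have h := hT.subset hr
    simp only [List.mem_cons, List.not_mem_nil, or_false] at h
    omega
  have h1 : wd T = 1 := by
    have h2 := congrArg S.π e
    rw [S.π_z, map_list_prod, List.map_map] at h2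
    rw [h2]
    unfold wd
    congr 1
    apply List.map_congr_left
    intro r hr
    exact (π_g S (hlt r hr)).symm
  have h3 : T = (posList 24).filter fun r => T.contains r := by
    have h := sub_tab
    rw [List.all_eq_true] at h
    have h4 := h T (List.mem_sublists.2 hT)
    rwa [decide_eq_true_eq] at h4
  have h5 : T = [] := by
    rw [List.eq_nil_iff_forall_not_mem]
    intro r hr
    have h6 : wd ((posList 24).filter fun r => T.contains r) = wd ((posList 24).filter fun _ => false) := by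
      rw [← h3, h1]
      have : ((posList 24).filter fun _ => false) = [] := List.filter_false _
      rw [this, wd_nil]
    have h7 := hT.subset hr
    simp only [List.mem_cons, List.not_mem_nil, or_false] at h7
    have h8 := nf_unique' h6 r (by omega) (by omega)
    simp only [List.contains_eq_mem, decide_eq_false_iff_not] at h8
    exact h8 hr
  rw [h5] at e
  exact S.ne e

/-- `Z(O₂(P)) ≤ W0 × ⟨z⟩` -/
theorem Wz_le {w : K} (hw : Wz (P S) w) : ∃ w0 ∈ W0 S, w = w0 ∨ w = w0 * S.z := by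
  have h1 : S.π w ∈ RG wP := by
    refine mem_W fun k hk => ?_
    have h2 := hw.2 (S.f (33 + k)) (In2_f S (by omega) (by omega))
    have h3 := congrArg S.π h2
    rwa [map_mul, map_mul, S.fx _ (by omega)] at h3
  have h2 : RG wP ≤ (W0 S).map S.π := by
    refine RG_le fun r hr hp => ?_
    unfold wP at hp
    rw [decide_eq_true_eq] at hp
    exact ⟨g S r, g_mem S hp hr, π_g S hr⟩
  obtain ⟨w0, hw0, e⟩ := h2 h1
  exact ⟨w0, hw0, S.eq_or e.symm⟩

theorem Phi_le : Phi (P S) ≤ W0 S := by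
  unfold Phi
  rw [closure_le]
  rintro _ ⟨w, p, hw, hp, rfl⟩
  obtain ⟨w0, hw0, rfl | rfl⟩ := Wz_le S hw
  · have h := mul_mem hw0 (P_norm_W0 S hp (inv_mem hw0))
    have e : w * p * w⁻¹ * p⁻¹ = w * (p * w⁻¹ * p⁻¹) := by group
    rw [SetLike.mem_coe, e]
    exact h
  · have h := mul_mem hw0 (P_norm_W0 S hp (inv_mem hw0))
    have e : w0 * S.z * p * (w0 * S.z)⁻¹ * p⁻¹ = w0 * (p * w0⁻¹ * p⁻¹) := by
      rw [mul_inv_rev, mul_assoc w0 S.z p, ← S.zc p]
      group
    rw [SetLike.mem_coe, e]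
    exact h

/-- **The class of `f 44 * z`.** -/
theorem bad : Alt S.z (S.f 44 * S.z) := by
  right
  rw [cent_eq]
  exact ⟨le_antisymm (P_le S) (O2_le _), e_mem S, fun h => z_not_mem_W0 S (Phi_le S h)⟩

/-- **`Facts.inv`** -/
theorem inv {e : K} (he : e * e = 1) (he1 : e ≠ 1) (hez : e ≠ S.z) : Alt S.z e :=
  inv_of' S (fun T => bad T) he he1 hez

end

end Cfsg.Agent.OddHalf.D9.FFour.Bad
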