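import Cfsg.Agent.OddHalf.D9.FFour.AutLL

/-!
# The outer involutions of `Aut(F₄(2))`

* `exists_coboundary`: `g ∈ U`, `g * gr g = 1` implies `g = h * (gr h)⁻¹`;
* `exists_conj_gr`: an automorphism of order two which is not inner is conjugate to `gr` (by inner automorphisms).
-/

set_option autoImplicit false

namespace Cfsg.Agent.OddHalf.D9.FFour.HOne

open Cfsg.Agent.ChevalleyStructure.TwF4.Rel (refl sp)
open Cfsg.Agent.ChevalleyStructure.TwF4.Torus (all_of)
open Cfsg.Agent.FourTwo.Base Cfsg.Agent.FourTwo.Comm Cfsg.Agent.FourTwo.BN Cfsg.Agent.FourTwo.Par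
  Cfsg.Agent.FourTwo.Cent Cfsg.Agent.OddHalf.D9.FFour.AutLL

/-! ### the layers -/

/-- the positive roots `r` with `k ≤ min (r, bar r)` -/
def lv (k r : ℕ) : Bool := decide (24 ≤ r) && (decide (k ≤ r) && decide (k ≤ bar r))

theorem lv_iff {k r : ℕ} : lv k r = true ↔ 24 ≤ r ∧ k ≤ r ∧ k ≤ bar r := by
  unfold lv
  simp only [Bool.and_eq_true, decide_eq_true_eq]

theorem bar_pos_tab : ((List.range 48).all fun r => decide (24 ≤ r) == decide (24 ≤ bar r)) = true := by
  decide +kernel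

theorem bar_pos {r : ℕ} (hr : r < 48) (h : 24 ≤ r) : 24 ≤ bar r := by
  have h1 := all_of bar_pos_tab hr
  rw [beq_iff_eq, decide_eq_true h] at h1
  exact of_decide_eq_true h1.symm

theorem lv_bar {k r : ℕ} (hr : r < 48) (h : lv k r = true) : lv k (bar r) = true := by
  rw [lv_iff] at h ⊢
  rw [bar_bar hr]
  exact ⟨bar_pos hr h.1, h.2.2, h.2.1⟩

theorem lv_succ {k r : ℕ} (h : lv (k + 1) r = true) : lv k r = true := by
  rw [lv_iff] at h ⊢
  exact ⟨h.1, by omega, by omega⟩

/-- the table of one layer -/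
def okL (k : ℕ) : Bool :=
  closedB (lv k) && (!(decide (k < bar k)) ||
    (normB (fun r => r == k || r == bar k) (lv (k + 1)) && (cmg k (bar k)).all (lv (k + 1)) &&
      (cmg (bar k) k).all (lv (k + 1)) && decide (k + bar k ≠ 47)))

theorem okL_tab : ((List.range 24).all fun k => okL (24 + k)) = true := by decide +kernel

theorem okL_of {k : ℕ} (h : 24 ≤ k) (h' : k < 48) : okL k = true := by
  have h1 := all_of okL_tab (show k - 24 < 24 by omega)
  rwa [Nat.add_sub_cancel' h] at h1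

theorem closed_lv {k : ℕ} (h : 24 ≤ k) (h' : k < 48) : closedB (lv k) = true := by
  have := okL_of h h'
  unfold okL at this
  rw [Bool.and_eq_true] at this
  exact this.1

theorem closed_lv' {k : ℕ} (h : 24 ≤ k) (h' : k ≤ 48) : closedB (lv k) = true := by
  rcases Nat.lt_or_ge k 48 with h1 | h1
  · exact closed_lv h h1
  · obtain rfl : k = 48 := by omega
    decide +kernel

theorem gr_mem {k : ℕ} {g : LL} (hg : g ∈ RG (lv k)) : gr g ∈ RG (lv k) := by
  have h : RG (lv k) ≤ (RG (lv k)).comap gr.toMonoidHom := RG_le fun r hr hP => by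
    show gr (x r) ∈ RG (lv k)
    rw [gr_x hr]
    exact x_mem_RG (bar_lt hr) (lv_bar hr hP)
  exact h hg

theorem gr_U {g : LL} (hg : g ∈ U) : gr g ∈ U := by
  rw [U_eq] at hg ⊢
  have h : RG posP ≤ (RG posP).comap gr.toMonoidHom := RG_le fun r hr hP => by
    show gr (x r) ∈ RG posP
    rw [gr_x hr]
    exact x_mem_RG (bar_lt hr) (decide_eq_true (bar_pos hr (of_decide_eq_true hP)))
  exact h hg

theorem lv_le_U {k : ℕ} : RG (lv k) ≤ U := RG_le fun _ hr h => x_mem_U (lv_iff.1 h).1 hr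

/-- one layer -/
theorem split {k : ℕ} (h24 : 24 ≤ k) (h48 : k < 48) (hk : k < bar k) {g : LL} (hg : g ∈ RG (lv k)) :
    ∃ s u : LL, (s = 1 ∨ s = x k ∨ s = x (bar k) ∨ s = x k * x (bar k)) ∧ u ∈ RG (lv (k + 1)) ∧ g = s * u := by
  have hb := bar_lt h48
  have hok := okL_of h24 h48
  unfold okL at hok
  rw [Bool.and_eq_true, decide_eq_true hk] at hok
  simp only [Bool.not_true, Bool.false_or, Bool.and_eq_true, decide_eq_true_eq] at hok
  obtain ⟨hcl, ⟨⟨hN, hc1⟩, hc2⟩, h47⟩ := hok
  have hxk : x k ∈ RG (fun r => r == k || r == bar k) := x_mem_RG h48 (by simp)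
  have hxb : x (bar k) ∈ RG (fun r => r == k || r == bar k) := x_mem_RG hb (by simp)
  have hw1 : wd (cmg k (bar k)) ∈ RG (lv (k + 1)) := by
    refine wd_mem_RG fun r hr => ?_
    rw [List.all_eq_true] at hc1
    exact ⟨(cmg_gt h24 h48 (bar_pos h48 h24) hb r hr).2.2, hc1 r hr⟩
  -- `x_{k'} x_k = x_k x_{k'} v`
  have hcomm : ∃ v ∈ RG (lv (k + 1)), x (bar k) * x k = x k * x (bar k) * v := by
    have h1 := comm_all h48 hb (by omega) h47
    -- `x_k x_b = x_b w x_k`, so `x_b x_k = x_k x_b (x_b x_k w⁻¹ ...)`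
    refine ⟨(x k)⁻¹ * (wd (cmg k (bar k)))⁻¹ * x k, ?_, ?_⟩
    · have := conj_mem hN (inv_mem hxk) (inv_mem hw1)
      rwa [inv_inv] at this
    · calc x (bar k) * x k = x (bar k) * wd (cmg k (bar k)) * x k * ((x k)⁻¹ * (wd (cmg k (bar k)))⁻¹ * x k) := by group
        _ = x k * x (bar k) * ((x k)⁻¹ * (wd (cmg k (bar k)))⁻¹ * x k) := by rw [← h1]
  obtain ⟨v, hv, hcomm⟩ := hcomm
  have hconj : ∀ {s : LL}, (s = 1 ∨ s = x k ∨ s = x (bar k) ∨ s = x k * x (bar k)) → ∀ {t : LL},
      t ∈ RG (lv (k + 1)) → s⁻¹ * t * s ∈ RG (lv (k + 1)) := by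
    intro s hs t ht
    have hs' : s ∈ RG (fun r => r == k || r == bar k) := by
      rcases hs with rfl | rfl | rfl | rfl
      · exact one_mem _
      · exact hxk
      · exact hxb
      · exact mul_mem hxk hxb
    have := conj_mem hN (inv_mem hs') ht
    rwa [inv_inv] at this
  have step : ∀ r < 48, lv k r = true → ∀ y : LL,
      (∃ s u : LL, (s = 1 ∨ s = x k ∨ s = x (bar k) ∨ s = x k * x (bar k)) ∧ u ∈ RG (lv (k + 1)) ∧ y = s * u) →
      ∃ s u : LL, (s = 1 ∨ s = x k ∨ s = x (bar k) ∨ s = x k * x (bar k)) ∧ u ∈ RG (lv (k + 1)) ∧ x r * y = s * u := by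
    rintro r hr hr' _ ⟨s, u, hs, hu, rfl⟩
    rw [lv_iff] at hr'
    by_cases h1 : r = k
    · subst h1
      rcases hs with rfl | rfl | rfl | rfl
      · exact ⟨x r, u, Or.inr (Or.inl rfl), hu, by simp⟩
      · exact ⟨1, u, Or.inl rfl, hu, by rw [← mul_assoc, x_mul_self]⟩
      · exact ⟨x r * x (bar r), u, Or.inr (Or.inr (Or.inr rfl)), hu, by rw [mul_assoc]⟩
      · exact ⟨x (bar r), u, Or.inr (Or.inr (Or.inl rfl)), hu, by
          rw [← mul_assoc, ← mul_assoc, x_mul_self, one_mul]⟩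
    by_cases h2 : r = bar k
    · subst h2
      rcases hs with rfl | rfl | rfl | rfl
      · exact ⟨x (bar k), u, Or.inr (Or.inr (Or.inl rfl)), hu, by simp⟩
      · refine ⟨x k * x (bar k), v * u, Or.inr (Or.inr (Or.inr rfl)), mul_mem hv hu, ?_⟩
        rw [← mul_assoc, hcomm, mul_assoc]
      · exact ⟨1, u, Or.inl rfl, hu, by rw [← mul_assoc, x_mul_self]⟩
      · have hv' : (x (bar k))⁻¹ * v * x (bar k) ∈ RG (lv (k + 1)) := hconj (s := x (bar k)) (by simp) hv
        refine ⟨x k, (x (bar k))⁻¹ * v * x (bar k) * u, Or.inr (Or.inl rfl), mul_mem hv' hu, ?_⟩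
        calc x (bar k) * (x k * x (bar k) * u) = (x (bar k) * x k) * x (bar k) * u := by group
          _ = x k * x (bar k) * v * x (bar k) * u := by rw [hcomm]
          _ = x k * (x (bar k) * x (bar k)) * ((x (bar k))⁻¹ * v * x (bar k) * u) := by group
          _ = x k * ((x (bar k))⁻¹ * v * x (bar k) * u) := by rw [x_mul_self, mul_one]
    · have h3 : lv (k + 1) r = true := by
        rw [lv_iff]
        refine ⟨hr'.1, by omega, ?_⟩
        have : bar r ≠ k := by
          intro h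
          apply h2
          rw [← h, bar_bar hr]
        omega
      have h4 : x r ∈ RG (lv (k + 1)) := x_mem_RG hr h3
      exact ⟨s, s⁻¹ * x r * s * u, hs, mul_mem (hconj hs h4) hu, by group⟩
  refine Subgroup.closure_induction_left
    (p := fun (g : LL) _ => ∃ s u : LL, (s = 1 ∨ s = x k ∨ s = x (bar k) ∨ s = x k * x (bar k)) ∧
      u ∈ RG (lv (k + 1)) ∧ g = s * u) ?_ ?_ ?_ hg
  · exact ⟨1, 1, Or.inl rfl, one_mem _, by simp⟩
  · rintro _ ⟨r, hr, hr', rfl⟩ y _ hy
    exact step r hr hr' y hy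
  · rintro _ ⟨r, hr, hr', rfl⟩ y _ hy
    rw [x_inv]
    exact step r hr hr' y hy

theorem step {k : ℕ} (h24 : 24 ≤ k) (h48 : k < 48) {g : LL} (hg : g ∈ RG (lv k)) (h1 : g * gr g = 1) :
    ∃ h ∈ U, h⁻¹ * g * gr h ∈ RG (lv (k + 1)) := by
  by_cases hk : k < bar k
  · have hb := bar_lt h48
    have hok := okL_of h24 h48
    unfold okL at hok
    rw [Bool.and_eq_true, decide_eq_true hk] at hok
    simp only [Bool.not_true, Bool.false_or, Bool.and_eq_true, decide_eq_true_eq] at hok
    obtain ⟨hcl, ⟨⟨hN, hc1⟩, hc2⟩, h47⟩ := hok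
    have hxk : x k ∈ RG (fun r => r == k || r == bar k) := x_mem_RG h48 (by simp)
    have hxb : x (bar k) ∈ RG (fun r => r == k || r == bar k) := x_mem_RG hb (by simp)
    have hno : x k * x (bar k) ∉ RG (lv (k + 1)) := by
      intro h
      have h2 := (mul_not_mem_RG (closed_lv' (by omega) (by omega)) h24 hb hk h).1
      rw [lv_iff] at h2
      omega
    have hw2 : wd (cmg (bar k) k) ∈ RG (lv (k + 1)) := by
      refine wd_mem_RG fun r hr => ?_
      rw [List.all_eq_true] at hc2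
      exact ⟨(cmg_gt (bar_pos h48 h24) hb h24 h48 r hr).2.2, hc2 r hr⟩
    obtain ⟨s, u, hs, hu, rfl⟩ := split h24 h48 hk hg
    have hgu := gr_mem hu
    rcases hs with rfl | rfl | rfl | rfl
    · exact ⟨1, one_mem _, by simpa using hu⟩
    · exfalso
      rw [map_mul, gr_x h48] at h1
      apply hno
      have h2 := conj_mem hN (inv_mem hxb) hu
      rw [inv_inv] at h2
      have h3 : x k * x (bar k) = ((x (bar k))⁻¹ * u * x (bar k) * gr u)⁻¹ := by
        rw [eq_inv_iff_mul_eq_one]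
        calc x k * x (bar k) * ((x (bar k))⁻¹ * u * x (bar k) * gr u) = x k * u * (x (bar k) * gr u) := by group
          _ = 1 := h1
      rw [h3]
      exact inv_mem (mul_mem h2 hgu)
    · exfalso
      rw [map_mul, gr_x hb, bar_bar h48] at h1
      apply hno
      have h2 := conj_mem hN (inv_mem hxk) hu
      rw [inv_inv] at h2
      have h3 : x (bar k) * x k = ((x k)⁻¹ * u * x k * gr u)⁻¹ := by
        rw [eq_inv_iff_mul_eq_one]
        calc x (bar k) * x k * ((x k)⁻¹ * u * x k * gr u) = x (bar k) * u * (x k * gr u) := by group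
          _ = 1 := h1
      -- `x_k x_b = (x_b x_k)⁻¹`
      have h4 : x k * x (bar k) = (x k)⁻¹ * u * x k * gr u := by
        have h5 : x k * x (bar k) = (x (bar k) * x k)⁻¹ := by rw [mul_inv_rev, x_inv, x_inv]
        rw [h5, h3, inv_inv]
      rw [h4]
      exact mul_mem h2 hgu
    · refine ⟨x k, x_mem_U h24 h48, ?_⟩
      rw [gr_x h48]
      have h2 := conj_mem hN (inv_mem hxb) hu
      rw [inv_inv] at h2
      have e : (x k)⁻¹ * (x k * x (bar k) * u) * x (bar k) = x (bar k) * x (bar k) * ((x (bar k))⁻¹ * u * x (bar k)) := by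
        group
      rw [e, x_mul_self, one_mul]
      exact h2
  · -- the layer is empty
    refine ⟨1, one_mem _, ?_⟩
    rw [inv_one, one_mul, map_one, mul_one]
    refine RG_mono (fun r hr h => ?_) hg
    rw [lv_iff] at h ⊢
    refine ⟨h.1, ?_, ?_⟩
    · rcases Nat.lt_or_ge k r with h2 | h2
      · exact h2
      · exfalso
        have h3 : r = k := by omega
        subst h3
        -- `bar k = k` is impossible
        have tab : ((List.range 48).all fun r => decide (bar r ≠ r)) = true := by decide +kernel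
        have h4 := of_decide_eq_true (all_of tab hr)
        omega
    · rcases Nat.lt_or_ge k (bar r) with h2 | h2
      · exact h2
      · exfalso
        have h3 : bar r = k := by omega
        apply hk
        rw [← h3, bar_bar hr]
        have tab : ((List.range 48).all fun r => decide (bar r ≠ r)) = true := by decide +kernel
        have h4 := of_decide_eq_true (all_of tab hr)
        omega

theorem gr_gr_apply (h : LL) : gr (gr h) = h := congrArg (fun f : MulAut LL => f h) gr_gr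

theorem cob_aux (n : ℕ) : ∀ k : ℕ, 24 ≤ k → k + n = 48 → ∀ g ∈ RG (lv k), g * gr g = 1 →
    ∃ h ∈ U, g = h * (gr h)⁻¹ := by
  induction n with
  | zero =>
    intro k _ hk g hg _
    have h0 : RG (lv k) = ⊥ := by
      rw [eq_bot_iff]
      exact RG_le fun r hr hp => absurd (lv_iff.1 hp).2.1 (by omega)
    rw [h0, Subgroup.mem_bot] at hg
    exact ⟨1, one_mem _, by rw [hg]; simp⟩
  | succ n ih =>
    intro k h24 hk g hg h1
    obtain ⟨h, hh, hm⟩ := step h24 (by omega) hg h1
    have h2 : h⁻¹ * g * gr h * gr (h⁻¹ * g * gr h) = 1 := by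
      rw [map_mul, map_mul, map_inv, gr_gr_apply]
      calc h⁻¹ * g * gr h * ((gr h)⁻¹ * gr g * h) = h⁻¹ * (g * gr g) * h := by group
        _ = 1 := by rw [h1]; group
    obtain ⟨h', hh', e⟩ := ih (k + 1) (by omega) (by omega) _ hm h2
    refine ⟨h * h', mul_mem hh hh', ?_⟩
    rw [map_mul]
    calc g = h * (h⁻¹ * g * gr h) * (gr h)⁻¹ := by group
      _ = h * (h' * (gr h')⁻¹) * (gr h)⁻¹ := by rw [e]
      _ = h * h' * (gr h * gr h')⁻¹ := by group

/-- `H¹(⟨gr⟩, U) = 1` -/
theorem exists_coboundary {g : LL} (hg : g ∈ U) (h1 : g * gr g = 1) : ∃ h ∈ U, g = h * (gr h)⁻¹ := by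
  refine cob_aux 24 24 le_rfl rfl g ?_ h1
  rw [U_eq] at hg
  refine RG_mono (fun r hr h => ?_) hg
  have : 24 ≤ r := of_decide_eq_true h
  exact lv_iff.2 ⟨this, this, bar_pos hr this⟩

/-! ### outer involutions -/

/-- `U` is self-normalising -/
theorem mem_U_of_normalizer {g : LL} (hg : g ∈ Subgroup.normalizer (U : Set LL)) : g ∈ U := by
  have h := parabolic_eq (H := Subgroup.normalizer (U : Set LL)) Subgroup.le_normalizer
  rw [h] at hg
  have h2 : Subgroup.closure {g | ∃ i < 4, n i ∈ Subgroup.normalizer (U : Set LL) ∧ g = n i} = ⊥ := by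
    rw [eq_bot_iff, Subgroup.closure_le]
    rintro _ ⟨i, hi, hn, rfl⟩
    exfalso
    have h1 := (Subgroup.mem_normalizer_iff.1 hn (x (sp i))).1 (x_mem_U sp_ge sp_lt')
    rw [n_conj_sp hi] at h1
    exact y_not_mem_U i h1
  rwa [h2, sup_bot_eq] at hg

/-- the centre of `LL` is trivial -/
theorem eq_one_of_central {g : LL} (h : ∀ y, g * y = y * g) : g = 1 := by
  have h1 : g ∈ U := mem_U_of_normalizer (by
    rw [Subgroup.mem_normalizer_iff]
    intro y
    rw [h y, mul_inv_cancel_right])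
  have h2 : g = w0 * g * w0⁻¹ := by rw [← h w0, mul_inv_cancel_right]
  refine eq_one_of h1 ?_
  rw [h2]
  exact w0_U h1

theorem conj_eq_one {g : LL} (h : MulAut.conj g = 1) : g = 1 := eq_one_of_central fun y => by
  have h1 : g * y * g⁻¹ = y := by
    have := congrArg (fun f : MulAut LL => f y) h
    exact this
  rw [mul_inv_eq_iff_eq_mul] at h1
  exact h1

theorem conj_mul_aut (β : MulAut LL) (g : LL) : β * MulAut.conj g = MulAut.conj (β g) * β := by
  ext1 y
  show β (g * y * g⁻¹) = β g * β y * (β g)⁻¹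
  rw [map_mul, map_mul, map_inv]

/-- an automorphism of order two fixes a Sylow 2-subgroup -/
theorem exists_fix_of_sq {β : MulAut LL} (hβ : β * β = 1) : ∃ y : LL, Fix (MulAut.conj y * β * (MulAut.conj y)⁻¹) U := by
  classical
  have : Fact (Nat.Prime 2) := ⟨Nat.prime_two⟩
  have hD : IsPGroup 2 (Subgroup.zpowers β) := by
    rintro ⟨h, hh⟩
    obtain ⟨k, rfl⟩ := Subgroup.mem_zpowers_iff.1 hh
    refine ⟨1, Subtype.ext ?_⟩
    show (β ^ k) ^ (2 ^ 1) = 1
    rw [pow_one, sq, ← zpow_add, ← two_mul, zpow_mul]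
    have h3 : β ^ (2 : ℤ) = 1 := by rw [zpow_two, hβ]
    rw [h3, one_zpow]
  have hnot : ¬ 2 ∣ Nat.card (Sylow 2 LL) := by
    have h := card_sylow_modEq_one 2 LL
    intro hd
    have h2 := (Nat.modEq_zero_iff_dvd.2 hd)
    have h3 := h.symm.trans h2
    exact absurd h3 (by decide)
  obtain ⟨S, hS⟩ := hD.nonempty_fixed_point_of_prime_not_dvd_card (Sylow 2 LL) hnot
  have hS' : β • S = S := by
    have := hS ⟨β, Subgroup.mem_zpowers β⟩
    exact this
  have hSm : ∀ g ∈ (S : Subgroup LL), β g ∈ (S : Subgroup LL) := by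
    intro g hg
    have h1 : β g ∈ ((β • S : Sylow 2 LL) : Subgroup LL) := by
      rw [Sylow.pointwise_smul_def]
      exact Subgroup.smul_mem_pointwise_smul g β _ hg
    rwa [hS'] at h1
  obtain ⟨y, hy⟩ := MulAction.exists_smul_eq LL S Cfsg.Agent.FourTwo.Classes.US
  have hyU : ∀ g, y * g * y⁻¹ ∈ U ↔ g ∈ (S : Subgroup LL) := by
    intro g
    have h1 : (U : Subgroup LL) = ((y • S : Sylow 2 LL) : Subgroup LL) := by
      rw [hy]; rfl
    rw [h1, Sylow.coe_subgroup_smul]
    constructor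
    · rintro ⟨g', hg', e⟩
      have e' : y * g' * y⁻¹ = y * g * y⁻¹ := e
      have : g' = g := by
        have := mul_right_cancel e'
        exact mul_left_cancel this
      rwa [← this]
    · intro hg
      exact ⟨g, hg, rfl⟩
  refine ⟨y, fix_of_le fun g hg => ?_⟩
  show y * β (y⁻¹ * g * y⁻¹⁻¹) * y⁻¹ ∈ U
  rw [hyU]
  apply hSm
  rw [← hyU]
  rw [inv_inv]
  have e : y * (y⁻¹ * g * y) * y⁻¹ = g := by group
  rwa [e]

/-- **The outer involutions of `Aut(F₄(2))` are conjugate to the graph automorphism.** -/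
theorem exists_conj_gr {β : MulAut LL} (hβ : β * β = 1) (hout : ∀ g : LL, β ≠ MulAut.conj g) :
    ∃ h : LL, MulAut.conj h * β * (MulAut.conj h)⁻¹ = gr := by
  obtain ⟨y, hy⟩ := exists_fix_of_sq hβ
  set β' := MulAut.conj y * β * (MulAut.conj y)⁻¹ with hβ'
  have hsq : β' * β' = 1 := by
    calc β' * β' = MulAut.conj y * (β * β) * (MulAut.conj y)⁻¹ := by rw [hβ']; group
      _ = 1 := by rw [hβ]; group
  obtain ⟨g, hg | hg⟩ := exists_aut β'
  · exfalso
    apply hout (y⁻¹ * g * y)
    rw [map_mul, map_mul, ← hg, hβ', map_inv]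
    group
  · -- `g ∈ N(U) = U`
    have hgU : g ∈ U := mem_U_of_normalizer (by
      rw [Subgroup.mem_normalizer_iff]
      intro u
      have h1 := hy (gr u)
      have h2 : β' (gr u) = g * u * g⁻¹ := by
        rw [hg]
        show g * gr (gr u) * g⁻¹ = g * u * g⁻¹
        rw [gr_gr_apply]
      rw [h2] at h1
      constructor
      · intro hu
        exact h1.2 (gr_U hu)
      · intro hu
        have h3 := gr_U (h1.1 hu)
        rwa [gr_gr_apply] at h3)
    have h1 : g * gr g = 1 := by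
      apply conj_eq_one
      calc MulAut.conj (g * gr g) = MulAut.conj g * (MulAut.conj (gr g) * gr) * gr⁻¹ := by
            rw [map_mul]; group
        _ = MulAut.conj g * (gr * MulAut.conj g) * gr⁻¹ := by rw [conj_mul_aut]
        _ = (MulAut.conj g * gr) * (MulAut.conj g * gr) * (gr * gr)⁻¹ := by group
        _ = 1 := by rw [← hg, hsq, gr_gr]; group
    obtain ⟨h, -, e⟩ := exists_coboundary hgU h1
    refine ⟨h⁻¹ * y, ?_⟩
    have h3 : gr * (MulAut.conj h)⁻¹ = MulAut.conj (gr h)⁻¹ * gr := by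
      rw [← map_inv MulAut.conj, conj_mul_aut, map_inv gr]
    have h2 : β' = MulAut.conj h * gr * (MulAut.conj h)⁻¹ := by
      rw [mul_assoc, h3, ← mul_assoc, ← map_mul, ← e]
      exact hg
    calc MulAut.conj (h⁻¹ * y) * β * (MulAut.conj (h⁻¹ * y))⁻¹ = (MulAut.conj h)⁻¹ * β' * MulAut.conj h := by
          rw [hβ', map_mul, map_inv]; group
      _ = gr := by rw [h2]; group

end Cfsg.Agent.OddHalf.D9.FFour.HOne
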