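import Cfsg.Agent.FourTwo.Comm

/-!
# D9, row `2.F₄(2)`: interface

* `Cov c z`: `K` is a perfect central extension of `LL = F₄(2)` with kernel `{1, z}`;
* `Lift c z f`: the canonical lifts `f r` (`r < 48`) of the root elements `x r`, all relations exact except
  `[f_l, f_s] = f_(l+s) f_(l+2s) z` for a long and a short root at 135 degrees;
* `Th S`: the subgroup generated by the elements `x` of `S` with `x ^ 3 = 1`;
* `Lab P x`: `x ∈ [A, P]` for a normal `2`-subgroup `A` of `P` centralising all normal `2`-subgroups of `P`;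
* `KF z`: the facts about `K` used in `G`.
-/

set_option autoImplicit false

namespace Cfsg.Agent.OddHalf.D9.FFour

open Subgroup Cfsg.Agent.FourTwo.Base Cfsg.Agent.FourTwo.Comm

universe u

/-- A perfect central extension of `F₄(2)` with kernel `{1, z}`. -/
structure Cov {K : Type u} [Group K] (c : K →* LL) (z : K) : Prop where
  surj : Function.Surjective c
  ker : ∀ k : K, c k = 1 ↔ k = 1 ∨ k = z
  z1 : z ≠ 1
  perf : ⁅(⊤ : Subgroup K), (⊤ : Subgroup K)⁆ = ⊤

/-- long roots (`47 = e₁ + e₂` is long, `44 = e₁` is short) -/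
def isLong (r : ℕ) : Bool := [0, 1, 2, 4, 5, 6, 15, 16, 17, 21, 22, 23, 24, 25, 26, 30, 31, 32, 41, 42, 43, 45, 46, 47].contains r

/-- **(R)** The canonical lifts. -/
structure Lift {K : Type u} [Group K] (c : K →* LL) (z : K) (f : ℕ → K) : Prop where
  map : ∀ r < 48, c (f r) = x r
  sq : ∀ r < 48, f r * f r = 1
  /-- commuting root elements have commuting lifts; `C_K(f r)` is the full preimage of `C(x r)` -/
  cent : ∀ r < 48, ∀ k : K, c k * x r = x r * c k → k * f r = f r * k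
  /-- same length, 120 degrees -/
  comm : ∀ r < 48, ∀ s < 48, ∀ t : ℕ, r ≠ s → r + s ≠ 47 → cmg r s = [t] → f r * f s = f s * f t * f r
  /-- 135 degrees -/
  commz : ∀ r < 48, ∀ s < 48, ∀ t u : ℕ, r ≠ s → r + s ≠ 47 → cmg r s = [t, u] →
    f r * f s = f s * (f t * f u) * f r * z
  /-- canonical: conjugate root elements have conjugate lifts, by the same elements -/
  conj : ∀ r < 48, ∀ s < 48, isLong r = isLong s → ∀ k : K, c k * x r * (c k)⁻¹ = x s → k * f r * k⁻¹ = f s

section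

variable {K : Type u} [Group K]

/-- The subgroup generated by the elements `x` of `S` with `x ^ 3 = 1`. -/
def Th (S : Subgroup K) : Subgroup K := closure {x : K | x ∈ S ∧ x ^ 3 = 1}

/-- `x ∈ [A, P]` for a normal `2`-subgroup `A` of `P` which centralises every normal `2`-subgroup of `P`. -/
def Lab (P : Subgroup K) (x : K) : Prop :=
  ∃ A : Subgroup K, A ≤ P ∧ (∀ p ∈ P, ∀ a ∈ A, p * a * p⁻¹ ∈ A) ∧ IsPGroup 2 ↥A ∧
    (∀ N : Subgroup K, N ≤ P → (∀ p ∈ P, ∀ n ∈ N, p * n * p⁻¹ ∈ N) → IsPGroup 2 ↥N →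
      ∀ a ∈ A, ∀ n ∈ N, a * n = n * a) ∧ x ∈ ⁅A, P⁆

/-- `C_K(e)` -/
abbrev Ce (e : K) : Subgroup K := centralizer ({e} : Set K)

/-- The fixed points of an automorphism. -/
def Fx (α : MulAut K) : Subgroup K where
  carrier := {x | α x = x}
  one_mem' := map_one α
  mul_mem' := fun {a b} ha hb => by
    change α (a * b) = a * b
    rw [map_mul, show α a = a from ha, show α b = b from hb]
  inv_mem' := fun {a} ha => by
    change α a⁻¹ = a⁻¹
    rw [map_inv, show α a = a from ha]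

@[simp] theorem mem_Fx {α : MulAut K} {x : K} : x ∈ Fx α ↔ α x = x := Iff.rfl

/-- **The facts on `K` used by the group `G`.** -/
structure KF (z : K) : Prop where
  zz : z * z = 1
  z1 : z ≠ 1
  zc : ∀ k : K, k * z = z * k
  /-- every element of `K` centralising `K` is in `{1, z}` -/
  cen : ∀ k : K, (∀ x : K, k * x = x * k) → k = 1 ∨ k = z
  nosq : ∀ y : K, y * y ≠ z
  inv : ∀ e : K, e * e = 1 → e ≠ 1 → e ≠ z →
    (∃ y ∈ Th (Ce e), y * y = e) ∨ (Lab (Th (Ce e)) e ∧ ¬ Lab (Th (Ce e)) z)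
  out : ∀ α : MulAut K, α * α = 1 → (∀ k : K, α ≠ MulAut.conj k) →
    ¬ Lab (Th (Fx α)) z ∧ ∃ x ∈ Th (Fx α), x ≠ 1 ∧ ∃ q : K, α q = q * x
  /-- `|Out K| ≤ 2` -/
  two : ∀ α β : MulAut K, (∀ k : K, α ≠ MulAut.conj k) → (∀ k : K, β ≠ MulAut.conj k) →
    ∃ k : K, α * β = MulAut.conj k

end

end Cfsg.Agent.OddHalf.D9.FFour
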