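import Cfsg.Agent.OddHalf.D9.FFour.Def
import Cfsg.Agent.OddHalf.D9.M12Glue

/-!
# D9, row `2.F₄(2)`: the `G`-level

`kill`: `G` simple, `K ⊴ C_G(z)` with `z ∈ Z(K)`, `C(K)` an abelian 2-group with one involution (`M12Glue.Amb`) and the
facts `FFour.Def.Facts` on `K`: contradiction. With `D(e) = C(z) ∩ C(e)`: the elements of odd order of `C(z)` lie in
`K`; if `e = g z g⁻¹ ∈ K - {z}` then either a square root of `e` in `O²(D(e))` gives a square root of `z` in `K`, or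
`Φ(C_K(e))` contains `e` and `Φ(C_K(e^))` does not contain `z`; if `e` is outer, then `e ~ ec` with
`1 ≠ c ∈ O²(D(e))`.
-/

set_option autoImplicit false

namespace Cfsg.Agent.OddHalf.D9.FFour.Kill

open Subgroup Cfsg.Agent.OddHalf.D9.FFour.Def Cfsg.Agent.OddHalf.D9.M12Glue

variable {G : Type*} [Group G] {z : G} {K : Subgroup G}

/-- `C(z) ∩ C(e)` -/
def Dz (z e : G) : Subgroup G := centralizer {z} ⊓ centralizer {e}

theorem mem_Dz {z e x : G} : x ∈ Dz z e ↔ x * z = z * x ∧ x * e = e * x := by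
  rw [Dz, mem_inf, mem_centralizer_singleton_iff, mem_centralizer_singleton_iff]

theorem Dz_comm (z e : G) : Dz z e = Dz e z := inf_comm _ _

theorem conj_comm_iff {x a g : G} : g * x * g⁻¹ * (g * a * g⁻¹) = g * a * g⁻¹ * (g * x * g⁻¹) ↔ x * a = a * x := by
  constructor
  · intro h
    have h1 : g * (x * a) * g⁻¹ = g * (a * x) * g⁻¹ := by
      calc g * (x * a) * g⁻¹ = g * x * g⁻¹ * (g * a * g⁻¹) := by group
        _ = g * a * g⁻¹ * (g * x * g⁻¹) := h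
        _ = g * (a * x) * g⁻¹ := by group
    exact mul_left_cancel (mul_right_cancel h1)
  · intro h
    calc g * x * g⁻¹ * (g * a * g⁻¹) = g * (x * a) * g⁻¹ := by group
      _ = g * (a * x) * g⁻¹ := by rw [h]
      _ = g * a * g⁻¹ * (g * x * g⁻¹) := by group

theorem map_Dz (g z e : G) : (Dz z e).map (MulAut.conj g).toMonoidHom = Dz (g * z * g⁻¹) (g * e * g⁻¹) := by
  ext x
  constructor
  · rintro ⟨y, hy, rfl⟩
    have h := mem_Dz.1 hy
    show g * y * g⁻¹ ∈ _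
    exact mem_Dz.2 ⟨conj_comm_iff.2 h.1, conj_comm_iff.2 h.2⟩
  · intro hx
    have h := mem_Dz.1 hx
    refine ⟨g⁻¹ * x * g, ?_, by show g * (g⁻¹ * x * g) * g⁻¹ = x; group⟩
    have e1 : g * (g⁻¹ * x * g) * g⁻¹ = x := by group
    rw [← e1] at h
    exact mem_Dz.2 ⟨conj_comm_iff.1 h.1, conj_comm_iff.1 h.2⟩

theorem conj_inj (g : G) : Function.Injective (MulAut.conj g).toMonoidHom := (MulAut.conj g).injective

/-- conjugation by `g⁻¹` maps `O²(C(z) ∩ C(g z g⁻¹))` to `O²(C(z) ∩ C(g⁻¹ z g))` -/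
theorem conj_O2 {g y : G} (hy : y ∈ O2 (Dz z (g * z * g⁻¹))) : g⁻¹ * y * g ∈ O2 (Dz z (g⁻¹ * z * g)) := by
  have h1 : (Dz z (g * z * g⁻¹)).map (MulAut.conj g⁻¹).toMonoidHom = Dz z (g⁻¹ * z * g) := by
    rw [map_Dz, Dz_comm]
    congr 1
    · group
    · group
  rw [← h1, map_O2 (conj_inj _)]
  refine ⟨y, hy, ?_⟩
  show g⁻¹ * y * g⁻¹⁻¹ = _
  rw [inv_inv]

/-- odd powers -/
theorem mem_of_pow_mem {H : Subgroup G} {x : G} {n : ℕ} (hn : Odd n) {m : ℕ} (hm : x ^ 2 ^ m ∈ H)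
    (h : x ^ n ∈ H) : x ∈ H := by
  have hcop : Nat.Coprime n (2 ^ m) := Nat.Coprime.pow_right _ (Nat.coprime_two_right.2 hn)
  have h1 : ∃ a b : ℤ, (n : ℤ) * a + (2 ^ m : ℕ) * b = 1 := by
    refine ⟨Nat.gcdA n (2 ^ m), Nat.gcdB n (2 ^ m), ?_⟩
    have := Nat.gcd_eq_gcd_ab n (2 ^ m)
    rw [hcop.gcd_eq_one] at this
    exact this.symm
  obtain ⟨a, b, hab⟩ := h1
  have h5 : x = (x ^ n) ^ a * (x ^ (2 ^ m)) ^ b := by
    conv_lhs => rw [← zpow_one x, ← hab]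
    rw [zpow_add, zpow_mul, zpow_mul]
    norm_cast
  rw [h5]
  exact H.mul_mem (H.zpow_mem h a) (H.zpow_mem hm b)

variable (A : Amb z K)

include A

/-- elements of odd order of `C(z)` lie in `K` -/
theorem odd_mem (F : Facts K ⟨z, A.zK⟩) {h : G} (hz : h * z = z * h) (ho : Odd (orderOf h)) : h ∈ K := by
  -- `h ∈ KR`
  have h1 : h ∈ KR K := by
    have h2 : h ^ 2 ∈ KR K := by
      have hz2 : h ^ 2 * z = z * h ^ 2 := by
        rw [sq, mul_assoc, hz, ← mul_assoc, hz, mul_assoc]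
      obtain ⟨k, hk⟩ := F.outsq (A.act hz)
      obtain ⟨k', hk', r, hr, e⟩ := A.of_inn hz2 ⟨k, by
        ext x
        show (k : G) * x * (k : G)⁻¹ = h ^ 2 * x * (h ^ 2)⁻¹
        have h3 := congrArg Subtype.val (hk x)
        have h4 : h * (h * (x : G) * h⁻¹) * h⁻¹ = k * x * (k : G)⁻¹ := h3
        rw [← h4, sq]
        group⟩
      exact ⟨k', hk', r, hr, e⟩
    refine mem_of_pow_mem ho (m := 1) (by rw [pow_one]; exact h2) ?_
    rw [pow_orderOf_eq_one]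
    exact one_mem _
  obtain ⟨k, hk, r, hr, rfl⟩ := h1
  have hc : Commute k r := (hr k hk).symm
  have h2 : r ^ orderOf (k * r) ∈ K := by
    have h3 : k ^ orderOf (k * r) * r ^ orderOf (k * r) = 1 := by
      rw [← hc.mul_pow, pow_orderOf_eq_one]
    rw [eq_inv_of_mul_eq_one_right h3]
    exact K.inv_mem (K.pow_mem hk _)
  obtain ⟨n, hn⟩ := A.two r hr
  exact K.mul_mem hk (mem_of_pow_mem ho (m := n) (by rw [hn]; exact one_mem _) h2)

theorem O2_le_K (F : Facts K ⟨z, A.zK⟩) (e : G) : O2 (Dz z e) ≤ K :=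
  O2_le_of fun _ hx ho => odd_mem A F (mem_Dz.1 hx).1 ho

theorem Kz (F : Facts K ⟨z, A.zK⟩) {k : G} (hk : k ∈ K) : k * z = z * k := by
  have := ((F.cen ⟨z, A.zK⟩).mpr (Or.inr rfl)) ⟨k, hk⟩
  exact (congrArg Subtype.val this).symm

/-- `O²(C(z) ∩ C(e)) = O²(C_K(e))` -/
theorem O2_eq (F : Facts K ⟨z, A.zK⟩) {e : G} (he : e ∈ K) :
    (O2 (centralizer {(⟨e, he⟩ : K)})).map K.subtype = O2 (Dz z e) := by
  rw [← map_O2 K.subtype_injective]
  apply le_antisymm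
  · apply O2_mono
    rintro _ ⟨x, hx, rfl⟩
    exact mem_Dz.2 ⟨Kz A F x.2, congrArg Subtype.val (mem_centralizer_singleton_iff.1 hx)⟩
  · unfold O2
    refine closure_mono ?_
    rintro x ⟨hx, ho⟩
    have h := mem_Dz.1 hx
    have hxK := odd_mem A F h.1 ho
    exact ⟨⟨⟨x, hxK⟩, mem_centralizer_singleton_iff.2 (Subtype.ext h.2), rfl⟩, ho⟩

/-- an involution in `K`, conjugate to `z`: type (S) is impossible -/
theorem not_S (F : Facts K ⟨z, A.zK⟩) {g : G} (he : g * z * g⁻¹ ∈ K)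
    (h : ∃ y ∈ O2 (centralizer {(⟨g * z * g⁻¹, he⟩ : K)}), y * y = ⟨g * z * g⁻¹, he⟩) : False := by
  obtain ⟨y, hy, hyy⟩ := h
  have h1 : (y : G) ∈ O2 (Dz z (g * z * g⁻¹)) := by
    rw [← O2_eq A F he]
    exact ⟨y, hy, rfl⟩
  have h2 := O2_le_K A F _ (conj_O2 h1)
  refine F.sq ⟨_, h2⟩ (Subtype.ext ?_)
  have h3 : (y : G) * y = g * z * g⁻¹ := congrArg Subtype.val hyy
  show g⁻¹ * y * g * (g⁻¹ * y * g) = z
  calc g⁻¹ * y * g * (g⁻¹ * y * g) = g⁻¹ * (y * y) * g := by group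
    _ = z := by rw [h3]; group

/-- `z^G ∩ K = {z}` -/
theorem eq_of_mem (F : Facts K ⟨z, A.zK⟩) (g : G) (he : g * z * g⁻¹ ∈ K) : g * z * g⁻¹ = z := by
  by_contra hne
  have hzz : z * z = 1 := congrArg Subtype.val F.zz
  have hz1 : z ≠ 1 := fun h => F.ne (Subtype.ext h)
  have sq' : ∀ g : G, g * z * g⁻¹ * (g * z * g⁻¹) = 1 := fun g => by
    calc g * z * g⁻¹ * (g * z * g⁻¹) = g * (z * z) * g⁻¹ := by group
      _ = 1 := by rw [hzz]; group
  have ne' : ∀ g : G, g * z * g⁻¹ ≠ 1 := fun g h => hz1 (conj_eq_one_iff.mp h)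
  rcases F.inv ⟨g * z * g⁻¹, he⟩ (Subtype.ext (sq' g)) (fun h => ne' g (congrArg Subtype.val h))
    (fun h => hne (congrArg Subtype.val h)) with h | ⟨hC, hPhi, hn⟩
  · exact not_S A F he h
  · -- the other conjugate
    have hzC : (⟨z, A.zK⟩ : K) ∈ centralizer {(⟨g * z * g⁻¹, he⟩ : K)} := by
      rw [mem_centralizer_singleton_iff]
      exact Subtype.ext (Kz A F he).symm
    have h1 : z ∈ O2 (Dz z (g * z * g⁻¹)) := by
      rw [← O2_eq A F he]
      rw [hC] at hzC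
      exact ⟨_, hzC, rfl⟩
    have h2 : g⁻¹ * z * g⁻¹⁻¹ ∈ K := by
      rw [inv_inv]
      exact O2_le_K A F _ (conj_O2 h1)
    have hne2 : g⁻¹ * z * g⁻¹⁻¹ ≠ z := by
      rw [inv_inv]
      intro h
      apply hne
      calc g * z * g⁻¹ = g * (g⁻¹ * z * g) * g⁻¹ := by rw [h]
        _ = z := by group
    rcases F.inv ⟨g⁻¹ * z * g⁻¹⁻¹, h2⟩ (Subtype.ext (sq' g⁻¹)) (fun h => ne' g⁻¹ (congrArg Subtype.val h))
      (fun h => hne2 (congrArg Subtype.val h)) with h | ⟨hC', hPhi', hn'⟩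
    · exact not_S A F h2 h
    · apply hn'
      -- `C_K(e^)` is the conjugate of `C_K(e)`
      have e1 : ((centralizer {(⟨g * z * g⁻¹, he⟩ : K)}).map K.subtype).map (MulAut.conj g⁻¹).toMonoidHom =
          (centralizer {(⟨g⁻¹ * z * g⁻¹⁻¹, h2⟩ : K)}).map K.subtype := by
        rw [hC, hC', O2_eq A F he, O2_eq A F h2, ← map_O2 (conj_inj _), map_Dz, Dz_comm]
        congr 2
        group
      have e2 : (g * z * g⁻¹) ∈ Phi ((centralizer {(⟨g * z * g⁻¹, he⟩ : K)}).map K.subtype) := by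
        rw [map_Phi K.subtype_injective]
        exact ⟨_, hPhi, rfl⟩
      have e3 : z ∈ Phi ((centralizer {(⟨g⁻¹ * z * g⁻¹⁻¹, h2⟩ : K)}).map K.subtype) := by
        rw [← e1, map_Phi (conj_inj _)]
        refine ⟨_, e2, ?_⟩
        show g⁻¹ * (g * z * g⁻¹) * g⁻¹⁻¹ = z
        group
      rw [map_Phi K.subtype_injective] at e3
      obtain ⟨y, hy, hyz⟩ := e3
      have : y = ⟨z, A.zK⟩ := Subtype.ext hyz
      rwa [this] at hy

/-- `z^G ∩ KR = {z}` -/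
theorem eq_of_mem_KR (F : Facts K ⟨z, A.zK⟩) (g : G) (he : g * z * g⁻¹ ∈ KR K) : g * z * g⁻¹ = z := by
  apply eq_of_mem A F g
  have hzz : z * z = 1 := congrArg Subtype.val F.zz
  have hsq : g * z * g⁻¹ * (g * z * g⁻¹) = 1 := by
    calc g * z * g⁻¹ * (g * z * g⁻¹) = g * (z * z) * g⁻¹ := by group
      _ = 1 := by rw [hzz]; group
  obtain ⟨k, hk, r, hr, e⟩ := he
  rw [e] at hsq ⊢
  have h1 : k * k * (r * r) = 1 := by
    calc k * k * (r * r) = k * (k * r) * r := by group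
      _ = k * (r * k) * r := by rw [hr k hk]
      _ = 1 := by rw [← hsq]; group
  have h2 : k * k = (r * r)⁻¹ := eq_inv_of_mul_eq_one_left h1
  have h3 : ∀ l ∈ K, (r * r) * l = l * (r * r) := fun l hl => by
    rw [mul_assoc, hr l hl, ← mul_assoc, hr l hl, mul_assoc]
  have h4 : (⟨k, hk⟩ : K) * ⟨k, hk⟩ = 1 ∨ (⟨k, hk⟩ : K) * ⟨k, hk⟩ = ⟨z, A.zK⟩ := by
    refine (F.cen _).1 ?_
    intro l
    apply Subtype.ext
    show k * k * l = l * (k * k)
    rw [h2, inv_mul_eq_iff_eq_mul, ← mul_assoc, h3 l l.2, mul_inv_cancel_right]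
  rcases h4 with h4 | h4
  · have h4' : k * k = 1 := congrArg Subtype.val h4
    have h5 : r * r = 1 := by rwa [h4', one_mul] at h1
    rcases A.one r hr h5 with rfl | rfl
    · rwa [mul_one]
    · exact K.mul_mem hk A.zK
  · exact absurd h4 (F.sq _)

/-- `z` is isolated in `C(z)` -/
theorem isolated (F : Facts K ⟨z, A.zK⟩) (g : G) (hg : g * z * g⁻¹ * z = z * (g * z * g⁻¹)) : g * z * g⁻¹ = z := by
  by_contra hne
  have hnKR : g * z * g⁻¹ ∉ KR K := fun h => hne (eq_of_mem_KR A F g h)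
  have hzz : z * z = 1 := congrArg Subtype.val F.zz
  set e := g * z * g⁻¹ with he
  have hee : e * e = 1 := by
    calc e * e = g * (z * z) * g⁻¹ := by rw [he]; group
      _ = 1 := by rw [hzz]; group
  obtain ⟨k, hc1, hc2⟩ := F.out (A.act hg) (by
    intro x
    apply Subtype.ext
    show e * (e * x * e⁻¹) * e⁻¹ = x
    calc e * (e * x * e⁻¹) * e⁻¹ = (e * e) * x * (e * e)⁻¹ := by group
      _ = x := by rw [hee]; group) (by
    intro k
    by_contra hcon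
    push Not at hcon
    apply hnKR
    exact A.of_inn hg ⟨k, by
      ext x
      exact (congrArg Subtype.val (hcon x)).symm⟩)
  set c := A.act hg k * k⁻¹ with hc
  have hc' : e * (k : G) * e⁻¹ * (k : G)⁻¹ = c := by rw [hc]; rfl
  -- `c ∈ O²(C(z) ∩ C(e))`
  have h1 : (c : G) ∈ O2 (Dz z e) := by
    have h2 : (fix (A.act hg)).map K.subtype ≤ Dz z e := by
      rintro _ ⟨x, hx, rfl⟩
      refine mem_Dz.2 ⟨Kz A F x.2, ?_⟩
      have h3 : e * (x : G) * e⁻¹ = x := congrArg Subtype.val (mem_fix.1 hx)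
      show (x : G) * e = e * x
      rw [mul_inv_eq_iff_eq_mul] at h3
      exact h3.symm
    apply O2_mono h2
    rw [map_O2 K.subtype_injective]
    exact ⟨c, hc2, rfl⟩
  have hce := (mem_Dz.1 (O2_le _ h1)).2
  -- `k e k⁻¹ = c⁻¹ e`
  have h2 : (k : G) * e * (k : G)⁻¹ = (c : G)⁻¹ * e := by
    rw [← hc']
    group
  have h3 := O2_le_K A F _ (conj_O2 ((O2 (Dz z e)).inv_mem h1))
  have h4 : (g⁻¹ * k * g) * z * (g⁻¹ * k * g)⁻¹ = g⁻¹ * (c : G)⁻¹ * g * z := by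
    calc (g⁻¹ * k * g) * z * (g⁻¹ * k * g)⁻¹ = g⁻¹ * (k * (g * z * g⁻¹) * (k : G)⁻¹) * g := by group
      _ = g⁻¹ * ((c : G)⁻¹ * (g * z * g⁻¹)) * g := by rw [← he, h2]
      _ = _ := by group
  have h5 := eq_of_mem A F (g⁻¹ * k * g) (by rw [h4]; exact K.mul_mem h3 A.zK)
  rw [h4] at h5
  have h6 : g⁻¹ * (c : G)⁻¹ * g = 1 := mul_eq_right.1 h5
  apply hc1
  apply Subtype.ext
  have h7 : (c : G)⁻¹ = 1 := by
    calc (c : G)⁻¹ = g * (g⁻¹ * (c : G)⁻¹ * g) * g⁻¹ := by group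
      _ = 1 := by rw [h6]; group
  exact inv_eq_one.1 h7

/-- **D9, row `2.F₄(2)`**, `K`-facts as hypotheses. -/
theorem kill [Finite G] [IsSimpleGroup G] (hna : ¬ IsMulCommutative G) (F : Facts K ⟨z, A.zK⟩) : False := by
  have hzz : z * z = 1 := congrArg Subtype.val F.zz
  have hz1 : z ≠ 1 := fun h => F.ne (Subtype.ext h)
  have hz : orderOf z = 2 := orderOf_eq_prime (by rw [sq, hzz]) hz1
  obtain ⟨g, h1, h2⟩ := StandardComponent.AltFinal.exists_conj hna hz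
  exact h1 (isolated A F g h2)

end Cfsg.Agent.OddHalf.D9.FFour.Kill
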