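import Cfsg.Agent.FourTwo.CentAll
import Cfsg.Agent.OddHalf.D9.FFour.Def

/-!
# Systems of lifts in a perfect double cover `K` of `F₄(2)`

`Sys K`: a surjection `π : K →* LL` with kernel `{1, z}`, `z ≠ 1`, `K` perfect, and lifts `f r` of the root elements
`x r` (involutions, equivariant), with the commutators of `LL`, except that the commutator of a long and a short root
element at 135° gets the factor `z`.
-/

set_option autoImplicit false

namespace Cfsg.Agent.OddHalf.D9.FFour.Sys

open Cfsg.Agent.FourTwo.Base (LL x wd x_mul_self wd_cons wd_nil)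
open Cfsg.Agent.FourTwo.Comm (cmg comm_all comm_one opp_all)
open Cfsg.Agent.FourTwo.CentAll (isShort)

/-- product of a word in the lifts -/
def fw {K : Type*} [Group K] (f : ℕ → K) (w : List ℕ) : K := (w.map f).prod

/-- **A system of lifts.** -/
structure Sys (K : Type*) [Group K] where
  /-- the projection -/
  π : K →* LL
  /-- the lifts of the root elements -/
  f : ℕ → K
  /-- the central involution -/
  z : K
  surj : Function.Surjective π
  perf : commutator K = ⊤
  ne : z ≠ 1
  zz : z * z = 1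
  ker : ∀ k, π k = 1 ↔ k = 1 ∨ k = z
  fx : ∀ r, r < 48 → π (f r) = x r
  ff : ∀ r, r < 48 → f r * f r = 1
  eqv : ∀ r s, r < 48 → s < 48 → isShort r = isShort s → ∀ k : K, π k * x r = x s * π k → k * f r = f s * k
  cm1 : ∀ r s, r < 48 → s < 48 → r ≠ s → r + s ≠ 47 → (cmg r s).length ≤ 1 → f r * f s = f s * fw f (cmg r s) * f r
  cm2 : ∀ r s, r < 48 → s < 48 → (cmg r s).length = 2 → f r * f s = f s * (fw f (cmg r s) * z) * f r

variable {K : Type*} [Group K]

theorem fw_nil (f : ℕ → K) : fw f [] = 1 := rfl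

theorem fw_cons (f : ℕ → K) (r : ℕ) (w : List ℕ) : fw f (r :: w) = f r * fw f w := by simp [fw]

theorem fw_append (f : ℕ → K) (w w' : List ℕ) : fw f (w ++ w') = fw f w * fw f w' := by simp [fw]

theorem fw_one (f : ℕ → K) (r : ℕ) : fw f [r] = f r := by simp [fw]

variable (S : Sys K)

namespace Sys

theorem π_z : S.π S.z = 1 := (S.ker _).2 (Or.inr rfl)

theorem f_inv {r : ℕ} (hr : r < 48) : (S.f r)⁻¹ = S.f r := by rw [inv_eq_iff_mul_eq_one, S.ff r hr]

theorem z_inv : S.z⁻¹ = S.z := by rw [inv_eq_iff_mul_eq_one, S.zz]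

/-- `z` is central -/
theorem zc (k : K) : k * S.z = S.z * k := by
  have h : S.π (k * S.z * k⁻¹) = 1 := by simp [S.π_z]
  rcases (S.ker _).1 h with h | h
  · exfalso
    apply S.ne
    rw [mul_inv_eq_one] at h
    simpa using h
  · rw [mul_inv_eq_iff_eq_mul] at h
    exact h

theorem zcom (k : K) : Commute k S.z := S.zc k

/-- elements with the same image -/
theorem eq_or {a b : K} (h : S.π a = S.π b) : a = b ∨ a = b * S.z := by
  have h1 : S.π (b⁻¹ * a) = 1 := by rw [map_mul, map_inv, h, inv_mul_cancel]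
  rcases (S.ker _).1 h1 with h1 | h1
  · left
    rw [inv_mul_eq_one] at h1
    exact h1.symm
  · right
    rw [inv_mul_eq_iff_eq_mul] at h1
    exact h1

theorem fc {r : ℕ} (hr : r < 48) {k : K} (h : S.π k * x r = x r * S.π k) : k * S.f r = S.f r * k :=
  S.eqv r r hr hr rfl k h

theorem conj {r s : ℕ} (hr : r < 48) (hs : s < 48) (h : isShort r = isShort s) {k : K}
    (hk : S.π k * x r * (S.π k)⁻¹ = x s) : k * S.f r * k⁻¹ = S.f s := by
  rw [mul_inv_eq_iff_eq_mul]
  exact S.eqv r s hr hs h k (by rw [← hk]; group)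

/-- opposite root elements -/
theorem braid {r : ℕ} (hr : r < 48) (h : isShort r = isShort (47 - r)) :
    S.f r * S.f (47 - r) * S.f r = S.f (47 - r) * S.f r * S.f (47 - r) := by
  have h1 := S.eqv r (47 - r) hr (by omega) h (S.f r * S.f (47 - r)) (by
    rw [map_mul, S.fx r hr, S.fx _ (by omega), opp_all hr, mul_assoc])
  rw [h1, mul_assoc]

theorem π_fw {w : List ℕ} (hw : ∀ r ∈ w, r < 48) : S.π (fw S.f w) = wd w := by
  induction w with
  | nil => rw [fw_nil, wd_nil, map_one]
  | cons r w ih =>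
    rw [fw_cons, wd_cons, map_mul, S.fx r (hw r List.mem_cons_self), ih fun s hs => hw s (List.mem_cons_of_mem _ hs)]

end Sys

end Cfsg.Agent.OddHalf.D9.FFour.Sys
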