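import Cfsg.Agent.OddHalf.D9.FFour.Sys

/-!
# Signed words in the lifts of the positive root elements

`it n w` collects the word `w` in the letters `f r`, `24 ≤ r < 48`, by `n` elementary steps; `word_eq` is the resulting
kernel check of an identity `fw w = fw w' * z ^ b`. Also the dual system.
-/

set_option autoImplicit false

namespace Cfsg.Agent.OddHalf.D9.FFour.Words

open Subgroup
open Cfsg.Agent.FourTwo.Base (LL x wd x_mul_self wd_cons wd_nil bar bar_lt bar_bar exists_graph)
open Cfsg.Agent.FourTwo.Comm (cmg comm_all comm_one opp_all)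
open Cfsg.Agent.FourTwo.CentAll (isShort)
open Cfsg.Agent.FourTwo.Par (cmg_gt)
open Cfsg.Agent.ChevalleyStructure.TwF4.Torus (all_of)
open Cfsg.Agent.OddHalf.D9.FFour.Sys

/-! ### tables -/

theorem len_tab : ((List.range 48).all fun r => (List.range 48).all fun s =>
    ((cmg r s).length == 0 || (cmg r s).length == 1 || (cmg r s).length == 2) &&
    (cmg r s).all (fun t => decide (t < 48)) && ((cmg r s).length == 0 || (r != s && r + s != 47))) = true := by
  decide +kernel

theorem len_cases {r s : ℕ} (hr : r < 48) (hs : s < 48) : (cmg r s).length ≤ 1 ∨ (cmg r s).length = 2 := by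
  have h := all_of (all_of len_tab hr) hs
  simp only [Bool.and_eq_true, Bool.or_eq_true, beq_iff_eq] at h
  omega

theorem cmg_lt {r s : ℕ} (hr : r < 48) (hs : s < 48) : ∀ t ∈ cmg r s, t < 48 := by
  have h := all_of (all_of len_tab hr) hs
  simp only [Bool.and_eq_true, List.all_eq_true, decide_eq_true_eq] at h
  exact h.1.2

theorem ne_of_len {r s : ℕ} (hr : r < 48) (hs : s < 48) (h0 : cmg r s ≠ []) : r ≠ s ∧ r + s ≠ 47 := by
  have h := all_of (all_of len_tab hr) hs
  simp only [Bool.and_eq_true, Bool.or_eq_true, beq_iff_eq, bne_iff_ne] at h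
  rcases h.2 with h1 | h1
  · exact absurd (List.length_eq_zero_iff.1 h1) h0
  · exact h1

theorem opp_tab : ((List.range 48).all fun r => isShort r == isShort (47 - r)) = true := by decide +kernel

theorem isShort_opp {r : ℕ} (hr : r < 48) : isShort r = isShort (47 - r) := by
  have h := all_of opp_tab hr
  rwa [beq_iff_eq] at h

section

variable {K : Type*} [Group K] (S : Sys K)

/-- the sign -/
def sg (b : Bool) : K := if b then S.z else 1

theorem sg_false : sg S false = 1 := rfl

theorem sg_true : sg S true = S.z := rfl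

theorem sg_xor (a b : Bool) : sg S (a ^^ b) = sg S a * sg S b := by
  cases a <;> cases b <;> simp [sg, S.zz]

theorem sg_comm (b : Bool) (k : K) : k * sg S b = sg S b * k := by
  cases b
  · simp [sg]
  · exact S.zc k

/-- the commutator formula -/
theorem cm_all {r s : ℕ} (hr : r < 48) (hs : s < 48) (h1 : r ≠ s) (h2 : r + s ≠ 47) :
    S.f r * S.f s = S.f s * (fw S.f (cmg r s) * sg S ((cmg r s).length == 2)) * S.f r := by
  rcases len_cases hr hs with h | h
  · have : ((cmg r s).length == 2) = false := by
      rw [beq_eq_false_iff_ne]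
      omega
    rw [this, sg_false, mul_one]
    exact S.cm1 r s hr hs h1 h2 h
  · rw [h, S.cm2 r s hr hs h]
    rfl

/-- commuting lifts -/
theorem comm0 {r s : ℕ} (hr : r < 48) (hs : s < 48) (h2 : r + s ≠ 47) (h : cmg r s = []) :
    S.f r * S.f s = S.f s * S.f r := by
  by_cases h1 : r = s
  · rw [h1]
  · have := cm_all S hr hs h1 h2
    rw [h, fw_nil, one_mul] at this
    rw [this]
    simp [sg]

/-! ### collection -/

/-- one step of the collection -/
def stp : List ℕ → List ℕ × Bool
  | [] => ([], false)
  | [a] => ([a], false)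
  | a :: b :: w => if a = b then (w, false) else
      if b < a then (b :: (cmg a b ++ (a :: w)), (cmg a b).length == 2)
      else ((fun p : List ℕ × Bool => (a :: p.1, p.2)) (stp (b :: w)))

/-- the letters are positive -/
def Pos (w : List ℕ) : Prop := ∀ r ∈ w, 24 ≤ r ∧ r < 48

theorem stp_spec : ∀ w : List ℕ, Pos w → Pos (stp w).1 ∧ fw S.f w = fw S.f (stp w).1 * sg S (stp w).2
  | [], h => ⟨h, by simp [stp, sg]⟩
  | [a], h => ⟨h, by simp [stp, sg]⟩
  | a :: b :: w, h => by
    have ha := h a (by simp)
    have hb := h b (by simp)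
    have hw : Pos w := fun r hr => h r (by simp [hr])
    unfold stp
    split_ifs with h1 h2
    · refine ⟨hw, ?_⟩
      subst h1
      rw [fw_cons, fw_cons, ← mul_assoc, S.ff a ha.2, one_mul]
      simp [sg]
    · refine ⟨?_, ?_⟩
      · intro r hr
        simp only [List.mem_cons, List.mem_append] at hr
        rcases hr with rfl | hr | rfl | hr
        · exact hb
        · have := cmg_gt ha.1 ha.2 hb.1 hb.2 r hr
          omega
        · exact ha
        · exact hw r hr
      · show _ = fw S.f (b :: (cmg a b ++ (a :: w))) * sg S ((cmg a b).length == 2)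
        rw [fw_cons, fw_cons, ← mul_assoc, cm_all S ha.2 hb.2 h1 (by omega), fw_cons, fw_append, fw_cons]
        generalize hs : sg S ((cmg a b).length == 2) = c
        have hc : ∀ k : K, k * c = c * k := fun k => by rw [← hs]; exact sg_comm S _ k
        calc S.f b * (fw S.f (cmg a b) * c) * S.f a * fw S.f w
            = S.f b * fw S.f (cmg a b) * (c * (S.f a * fw S.f w)) := by simp only [mul_assoc]
          _ = S.f b * fw S.f (cmg a b) * ((S.f a * fw S.f w) * c) := by rw [hc]
          _ = _ := by simp only [mul_assoc]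
    · have ih := stp_spec (b :: w) (fun r hr => h r (by simp only [List.mem_cons] at hr ⊢; exact Or.inr hr))
      refine ⟨?_, ?_⟩
      · intro r hr
        simp only [List.mem_cons] at hr
        rcases hr with rfl | hr
        · exact ha
        · exact ih.1 r hr
      · rw [fw_cons, ih.2]
        show _ = fw S.f (a :: (stp (b :: w)).1) * sg S (stp (b :: w)).2
        rw [fw_cons, mul_assoc]

/-- `n` steps of the collection -/
def it : ℕ → List ℕ × Bool → List ℕ × Bool
  | 0, p => p
  | n + 1, p => (fun q : List ℕ × Bool => it n (q.1, q.2 ^^ p.2)) (stp p.1)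

theorem it_spec : ∀ (n : ℕ) (p : List ℕ × Bool), Pos p.1 → fw S.f p.1 * sg S p.2 =
    fw S.f (it n p).1 * sg S (it n p).2
  | 0, p, _ => rfl
  | n + 1, p, h => by
    obtain ⟨h1, h2⟩ := stp_spec S p.1 h
    show _ = fw S.f (it n ((stp p.1).1, (stp p.1).2 ^^ p.2)).1 * sg S (it n ((stp p.1).1, (stp p.1).2 ^^ p.2)).2
    rw [← it_spec n ((stp p.1).1, (stp p.1).2 ^^ p.2) h1]
    show _ = fw S.f (stp p.1).1 * sg S ((stp p.1).2 ^^ p.2)
    rw [h2, sg_xor, mul_assoc]

/-- the check -/
def chk (n : ℕ) (w w' : List ℕ) (b : Bool) : Bool :=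
  (w.all fun r => Nat.ble 24 r && Nat.blt r 48) && (w'.all fun r => Nat.ble 24 r && Nat.blt r 48) &&
  decide (it n (w, false) = it n (w', b))

theorem pos_of_all {w : List ℕ} (h : (w.all fun r => Nat.ble 24 r && Nat.blt r 48) = true) : Pos w := by
  intro r hr
  rw [List.all_eq_true] at h
  have h1 := h r hr
  rw [Bool.and_eq_true] at h1
  have h2 := h1.2
  unfold Nat.blt at h2
  exact ⟨Nat.le_of_ble_eq_true h1.1, Nat.le_of_ble_eq_true h2⟩

/-- **kernel check of word identities** -/
theorem word_eq {n : ℕ} {w w' : List ℕ} {b : Bool} (h : chk n w w' b = true) : fw S.f w = fw S.f w' * sg S b := by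
  unfold chk at h
  rw [Bool.and_eq_true, Bool.and_eq_true, decide_eq_true_eq] at h
  have h1 := it_spec S n (w, false) (pos_of_all h.1.1)
  have h2 := it_spec S n (w', b) (pos_of_all h.1.2)
  rw [h.2, ← h2] at h1
  rw [sg_false, mul_one] at h1
  exact h1

end

/-! ### the dual system -/

theorem bar_tab : ((List.range 48).all fun r => (List.range 48).all fun s =>
    (isShort (bar r) == !isShort r) && ((cmg r s == [] && cmg (bar r) (bar s) == []) ||
      ((cmg r s).length == 1 && cmg (bar r) (bar s) == (cmg r s).map bar) ||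
      ((cmg r s).length == 2 && ((cmg (bar r) (bar s)) == (cmg r s).map bar ||
        (cmg (bar r) (bar s)) == ((cmg r s).map bar).reverse))) &&
    ((cmg r s).all fun t => (cmg r s).all fun u => t + u != 47 && cmg t u == []) &&
    (!(bar r == bar s) || r == s) && (!(bar r + bar s == 47) || r + s == 47)) = true := by decide +kernel

section

variable {K : Type*} [Group K] (S : Sys K)

theorem bar_len {r s : ℕ} (hr : r < 48) (hs : s < 48) : (cmg (bar r) (bar s)).length = (cmg r s).length := by
  have h := all_of (all_of bar_tab hr) hs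
  simp only [Bool.and_eq_true, Bool.or_eq_true, beq_iff_eq] at h
  rcases h.1.1.1.2 with (h1 | h1) | h1
  · rw [h1.1, h1.2]
  · rw [h1.2, List.length_map]
  · rcases h1.2 with h2 | h2
    · rw [h2, List.length_map]
    · rw [h2, List.length_reverse, List.length_map]

theorem fw_bar {r s : ℕ} (hr : r < 48) (hs : s < 48) :
    fw S.f (cmg (bar r) (bar s)) = fw (fun r => S.f (bar r)) (cmg r s) := by
  have h := all_of (all_of bar_tab hr) hs
  have hl := cmg_lt (bar_lt hr) (bar_lt hs)
  have h' := all_of (all_of bar_tab (bar_lt hr)) (bar_lt hs)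
  simp only [Bool.and_eq_true, Bool.or_eq_true, beq_iff_eq, List.all_eq_true, bne_iff_ne] at h h'
  have hmap : fw (fun r => S.f (bar r)) (cmg r s) = fw S.f ((cmg r s).map bar) := by
    unfold fw
    rw [List.map_map]
    rfl
  rw [hmap]
  rcases h.1.1.1.2 with (h1 | h1) | h1
  · rw [h1.1, h1.2, List.map_nil]
  · rw [h1.2]
  · rcases h1.2 with h2 | h2
    · rw [h2]
    · have h3 : (cmg r s).map bar = (cmg (bar r) (bar s)).reverse := by rw [h2, List.reverse_reverse]
      rw [h3]
      have h4 : (cmg (bar r) (bar s)).length = 2 := by rw [bar_len hr hs, h1.1]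
      obtain ⟨t, u, htu⟩ : ∃ t u, cmg (bar r) (bar s) = [t, u] := by
        match hh : cmg (bar r) (bar s), h4 with
        | [t, u], _ => exact ⟨t, u, rfl⟩
      have h5 := h'.1.1.2 t (by rw [htu]; simp) u (by rw [htu]; simp)
      rw [htu] at hl ⊢
      simp only [List.reverse_cons, List.reverse_nil, List.nil_append, List.cons_append, fw_cons, fw_nil, mul_one]
      exact comm0 S (hl t (by simp)) (hl u (by simp)) h5.1 h5.2

/-- **The dual system.** -/
theorem exists_dual : ∃ T : Sys K, (∀ r, T.f r = S.f (bar r)) ∧ T.z = S.z := by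
  obtain ⟨γ, hγ⟩ := exists_graph
  have key : ∀ r s : ℕ, r < 48 → s < 48 → ∀ k : K, γ (S.π k) * x r = x s * γ (S.π k) →
      S.π k * x (bar r) = x (bar s) * S.π k := by
    intro r s hr hs k h
    apply γ.injective
    rw [map_mul, map_mul, hγ _ (bar_lt hr), hγ _ (bar_lt hs), bar_bar hr, bar_bar hs]
    exact h
  have hsh : ∀ r, r < 48 → isShort (bar r) = !isShort r := by
    intro r hr
    have h := all_of (all_of bar_tab hr) hr
    simp only [Bool.and_eq_true, beq_iff_eq] at h
    exact h.1.1.1.1
  refine ⟨{
    π := (γ : LL →* LL).comp S.π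
    f := fun r => S.f (bar r)
    z := S.z
    surj := γ.surjective.comp S.surj
    perf := S.perf
    ne := S.ne
    zz := S.zz
    ker := ?_
    fx := ?_
    ff := fun r hr => S.ff _ (bar_lt hr)
    eqv := ?_
    cm1 := ?_
    cm2 := ?_ }, fun r => rfl, rfl⟩
  · intro k
    rw [← S.ker k]
    show γ (S.π k) = 1 ↔ _
    rw [map_eq_one_iff γ γ.injective]
  · intro r hr
    show γ (S.π (S.f (bar r))) = x r
    rw [S.fx _ (bar_lt hr), hγ _ (bar_lt hr), bar_bar hr]
  · intro r s hr hs h k hk
    exact S.eqv _ _ (bar_lt hr) (bar_lt hs) (by rw [hsh r hr, hsh s hs, h]) k (key r s hr hs k hk)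
  · intro r s hr hs h1 h2 h3
    have h := all_of (all_of bar_tab hr) hs
    simp only [Bool.and_eq_true, Bool.or_eq_true, beq_iff_eq, Bool.not_eq_true', beq_eq_false_iff_ne] at h
    have h4 : bar r ≠ bar s := by
      rcases h.1.2 with h' | h'
      · exact h'
      · exact absurd h' h1
    have h5 : bar r + bar s ≠ 47 := by
      rcases h.2 with h' | h'
      · exact h'
      · exact absurd h' h2
    rw [← fw_bar S hr hs]
    exact S.cm1 _ _ (bar_lt hr) (bar_lt hs) h4 h5 (by rw [bar_len hr hs]; exact h3)
  · intro r s hr hs h3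
    rw [← fw_bar S hr hs]
    exact S.cm2 _ _ (bar_lt hr) (bar_lt hs) (by rw [bar_len hr hs]; exact h3)

end

end Cfsg.Agent.OddHalf.D9.FFour.Words
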